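import Cfsg.Agent.H99.E6.AdjTable

/-! Kernel check of the adjoint table, in chunks to keep the memory of each check small. -/

set_option autoImplicit false
set_option maxHeartbeats 1000000
set_option Elab.async false

namespace Cfsg.Agent.H99.E6

theorem adjointOK0_0 : (List.range' 0 6).all (fun r => adjointOK r 0) = true := by
  decide +kernel

theorem adjointOK0_1 : (List.range' 6 6).all (fun r => adjointOK r 0) = true := by
  decide +kernel

theorem adjointOK0_2 : (List.range' 12 6).all (fun r => adjointOK r 0) = true := by
  decide +kernel

theorem adjointOK0_3 : (List.range' 18 6).all (fun r => adjointOK r 0) = true := by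
  decide +kernel

theorem adjointOK0_4 : (List.range' 24 6).all (fun r => adjointOK r 0) = true := by
  decide +kernel

theorem adjointOK0_5 : (List.range' 30 6).all (fun r => adjointOK r 0) = true := by
  decide +kernel

theorem adjointOK0_6 : (List.range' 36 6).all (fun r => adjointOK r 0) = true := by
  decide +kernel

theorem adjointOK0_7 : (List.range' 42 6).all (fun r => adjointOK r 0) = true := by
  decide +kernel

theorem adjointOK0_8 : (List.range' 48 6).all (fun r => adjointOK r 0) = true := by
  decide +kernel

theorem adjointOK0_9 : (List.range' 54 6).all (fun r => adjointOK r 0) = true := by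
  decide +kernel

theorem adjointOK0_10 : (List.range' 60 6).all (fun r => adjointOK r 0) = true := by
  decide +kernel

theorem adjointOK0_11 : (List.range' 66 6).all (fun r => adjointOK r 0) = true := by
  decide +kernel

theorem adjointOK0 : (List.range 72).all (fun r => adjointOK r 0) = true := by
  rw [show List.range 72 = List.range' 0 6 ++ List.range' 6 6 ++ List.range' 12 6 ++ List.range' 18 6 ++ List.range' 24 6 ++ List.range' 30 6 ++ List.range' 36 6 ++ List.range' 42 6 ++ List.range' 48 6 ++ List.range' 54 6 ++ List.range' 60 6 ++ List.range' 66 6 from rfl]
  simp only [List.all_append, adjointOK0_0, adjointOK0_1, adjointOK0_2, adjointOK0_3, adjointOK0_4, adjointOK0_5, adjointOK0_6, adjointOK0_7, adjointOK0_8, adjointOK0_9, adjointOK0_10, adjointOK0_11, Bool.and_self]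

theorem adjointOK1_0 : (List.range' 0 6).all (fun r => adjointOK r 1) = true := by
  decide +kernel

theorem adjointOK1_1 : (List.range' 6 6).all (fun r => adjointOK r 1) = true := by
  decide +kernel

theorem adjointOK1_2 : (List.range' 12 6).all (fun r => adjointOK r 1) = true := by
  decide +kernel

theorem adjointOK1_3 : (List.range' 18 6).all (fun r => adjointOK r 1) = true := by
  decide +kernel

theorem adjointOK1_4 : (List.range' 24 6).all (fun r => adjointOK r 1) = true := by
  decide +kernel

theorem adjointOK1_5 : (List.range' 30 6).all (fun r => adjointOK r 1) = true := by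
  decide +kernel

theorem adjointOK1_6 : (List.range' 36 6).all (fun r => adjointOK r 1) = true := by
  decide +kernel

theorem adjointOK1_7 : (List.range' 42 6).all (fun r => adjointOK r 1) = true := by
  decide +kernel

theorem adjointOK1_8 : (List.range' 48 6).all (fun r => adjointOK r 1) = true := by
  decide +kernel

theorem adjointOK1_9 : (List.range' 54 6).all (fun r => adjointOK r 1) = true := by
  decide +kernel

theorem adjointOK1_10 : (List.range' 60 6).all (fun r => adjointOK r 1) = true := by
  decide +kernel

theorem adjointOK1_11 : (List.range' 66 6).all (fun r => adjointOK r 1) = true := by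
  decide +kernel

theorem adjointOK1 : (List.range 72).all (fun r => adjointOK r 1) = true := by
  rw [show List.range 72 = List.range' 0 6 ++ List.range' 6 6 ++ List.range' 12 6 ++ List.range' 18 6 ++ List.range' 24 6 ++ List.range' 30 6 ++ List.range' 36 6 ++ List.range' 42 6 ++ List.range' 48 6 ++ List.range' 54 6 ++ List.range' 60 6 ++ List.range' 66 6 from rfl]
  simp only [List.all_append, adjointOK1_0, adjointOK1_1, adjointOK1_2, adjointOK1_3, adjointOK1_4, adjointOK1_5, adjointOK1_6, adjointOK1_7, adjointOK1_8, adjointOK1_9, adjointOK1_10, adjointOK1_11, Bool.and_self]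

end Cfsg.Agent.H99.E6
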