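import Cfsg.Agent.H99.E6.Torus
import Cfsg.Agent.Chevalley.Model
import Cfsg.Prelude.Def_ChevE6

/-! The conjugates of the basis of the Lie algebra by root elements, compared with the tables. -/

set_option autoImplicit false
set_option maxHeartbeats 1000000

namespace Cfsg.Agent.H99.E6

open Matrix Cfsg.Agent.Chevalley

/-- the type `E₆` datum -/
local notation "DE6" => Cfsg.Lie.chevE6

/-- the basis of the Lie algebra, numbered as the coordinates of the adjoint module -/
def liftN (j : ℕ) : Sp :=
  if h : j < 6 then (List.finRange 27).map fun a => (a, a, wt ⟨j, h⟩ a) else rootM (j - 6)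

/-- a column of the adjoint matrix as a sparse matrix -/
def liftCol (v : SVec) : Sp := v.flatMap fun p => smulS p.2 (liftN p.1)

/-- coefficient of `t ^ k` of the conjugate of a basis element by a root element -/
def conjC (r j k : ℕ) : Sp :=
  if k = 0 then liftN j
  else if k = 1 then mulS (rootM r) (liftN j) ++ smulS (-1) (mulS (liftN j) (rootM r))
  else if k = 2 then smulS (-1) (mulS (mulS (rootM r) (liftN j)) (rootM r))
  else []

/-- agreement with the tables -/
def adjointOK (r k : ℕ) : Bool :=
  (List.range 78).all fun j =>
    (aCol DE6 r k j).all (fun p => decide (p.1 < 78)) &&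
      sameM (conjC r j k) (liftCol (aCol DE6 r k j))

end Cfsg.Agent.H99.E6
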