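import Cfsg.Agent.H99.E6.AdjTable

/-! Kernel check of the adjoint table, in chunks to keep the memory of each check small. -/

set_option autoImplicit false
set_option maxHeartbeats 1000000
set_option Elab.async false

namespace Cfsg.Agent.H99.E6

theorem adjointOK2_0 : (List.range' 0 6).all (fun r => adjointOK r 2) = true := by
  decide +kernel

theorem adjointOK2_1 : (List.range' 6 6).all (fun r => adjointOK r 2) = true := by
  decide +kernel

theorem adjointOK2_2 : (List.range' 12 6).all (fun r => adjointOK r 2) = true := by
  decide +kernel

theorem adjointOK2_3 : (List.range' 18 6).all (fun r => adjointOK r 2) = true := by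
  decide +kernel

theorem adjointOK2_4 : (List.range' 24 6).all (fun r => adjointOK r 2) = true := by
  decide +kernel

theorem adjointOK2_5 : (List.range' 30 6).all (fun r => adjointOK r 2) = true := by
  decide +kernel

theorem adjointOK2_6 : (List.range' 36 6).all (fun r => adjointOK r 2) = true := by
  decide +kernel

theorem adjointOK2_7 : (List.range' 42 6).all (fun r => adjointOK r 2) = true := by
  decide +kernel

theorem adjointOK2_8 : (List.range' 48 6).all (fun r => adjointOK r 2) = true := by
  decide +kernel

theorem adjointOK2_9 : (List.range' 54 6).all (fun r => adjointOK r 2) = true := by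
  decide +kernel

theorem adjointOK2_10 : (List.range' 60 6).all (fun r => adjointOK r 2) = true := by
  decide +kernel

theorem adjointOK2_11 : (List.range' 66 6).all (fun r => adjointOK r 2) = true := by
  decide +kernel

theorem adjointOK2 : (List.range 72).all (fun r => adjointOK r 2) = true := by
  rw [show List.range 72 = List.range' 0 6 ++ List.range' 6 6 ++ List.range' 12 6 ++ List.range' 18 6 ++ List.range' 24 6 ++ List.range' 30 6 ++ List.range' 36 6 ++ List.range' 42 6 ++ List.range' 48 6 ++ List.range' 54 6 ++ List.range' 60 6 ++ List.range' 66 6 from rfl]
  simp only [List.all_append, adjointOK2_0, adjointOK2_1, adjointOK2_2, adjointOK2_3, adjointOK2_4, adjointOK2_5, adjointOK2_6, adjointOK2_7, adjointOK2_8, adjointOK2_9, adjointOK2_10, adjointOK2_11, Bool.and_self]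

theorem adjointOK3_0 : (List.range' 0 6).all (fun r => adjointOK r 3) = true := by
  decide +kernel

theorem adjointOK3_1 : (List.range' 6 6).all (fun r => adjointOK r 3) = true := by
  decide +kernel

theorem adjointOK3_2 : (List.range' 12 6).all (fun r => adjointOK r 3) = true := by
  decide +kernel

theorem adjointOK3_3 : (List.range' 18 6).all (fun r => adjointOK r 3) = true := by
  decide +kernel

theorem adjointOK3_4 : (List.range' 24 6).all (fun r => adjointOK r 3) = true := by
  decide +kernel

theorem adjointOK3_5 : (List.range' 30 6).all (fun r => adjointOK r 3) = true := by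
  decide +kernel

theorem adjointOK3_6 : (List.range' 36 6).all (fun r => adjointOK r 3) = true := by
  decide +kernel

theorem adjointOK3_7 : (List.range' 42 6).all (fun r => adjointOK r 3) = true := by
  decide +kernel

theorem adjointOK3_8 : (List.range' 48 6).all (fun r => adjointOK r 3) = true := by
  decide +kernel

theorem adjointOK3_9 : (List.range' 54 6).all (fun r => adjointOK r 3) = true := by
  decide +kernel

theorem adjointOK3_10 : (List.range' 60 6).all (fun r => adjointOK r 3) = true := by
  decide +kernel

theorem adjointOK3_11 : (List.range' 66 6).all (fun r => adjointOK r 3) = true := by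
  decide +kernel

theorem adjointOK3 : (List.range 72).all (fun r => adjointOK r 3) = true := by
  rw [show List.range 72 = List.range' 0 6 ++ List.range' 6 6 ++ List.range' 12 6 ++ List.range' 18 6 ++ List.range' 24 6 ++ List.range' 30 6 ++ List.range' 36 6 ++ List.range' 42 6 ++ List.range' 48 6 ++ List.range' 54 6 ++ List.range' 60 6 ++ List.range' 66 6 from rfl]
  simp only [List.all_append, adjointOK3_0, adjointOK3_1, adjointOK3_2, adjointOK3_3, adjointOK3_4, adjointOK3_5, adjointOK3_6, adjointOK3_7, adjointOK3_8, adjointOK3_9, adjointOK3_10, adjointOK3_11, Bool.and_self]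

end Cfsg.Agent.H99.E6
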