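import Cfsg.Agent.H99.E6.Stab
import Cfsg.Agent.H99.E6.AdjOne
import Cfsg.Agent.H99.E6.AdjTwo
import Cfsg.Agent.Chevalley.All
import Cfsg.Agent.Chevalley.Relations

/-! The adjoint representation: the group generated by the root elements maps onto the Chevalley
group of type `E₆` with the scalars as kernel. -/

set_option autoImplicit false
set_option maxHeartbeats 1000000

namespace Cfsg.Agent.H99.E6

open Matrix Cfsg.Agent.Chevalley

/-- the type `E₆` datum -/
local notation "DE6" => Cfsg.Lie.chevE6

theorem adjointOK_all (r : Fin 72) {k : ℕ} (hk : k ∈ Finset.range 4) (x : Cfsg.Lie.ChevalleyDatum.Idx DE6) :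
    Bounded DE6 (aCol DE6 r.val k (idxNat x)) ∧
      sameM (conjC r.val (idxNat x) k) (liftCol (aCol DE6 r.val k (idxNat x))) = true := by
  have hr : r.val ∈ List.range 72 := List.mem_range.2 r.isLt
  have hk' := Finset.mem_range.1 hk
  have h : adjointOK r.val k = true := by
    interval_cases k
    · exact List.all_eq_true.1 adjointOK0 _ hr
    · exact List.all_eq_true.1 adjointOK1 _ hr
    · exact List.all_eq_true.1 adjointOK2 _ hr
    · exact List.all_eq_true.1 adjointOK3 _ hr
  have hx := List.all_eq_true.1 h (idxNat x) (List.mem_range.2 (idxNat_lt x))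
  simp only [Bool.and_eq_true, List.all_eq_true, decide_eq_true_eq] at hx
  exact ⟨hx.1, hx.2⟩

variable {F : Type*} [Field F]

local notation "M27" => Matrix (Fin 27) (Fin 27) F
local notation "V78" => (Cfsg.Lie.ChevalleyDatum.Idx DE6 → F)

/-- the embedding of the adjoint module -/
def lift : V78 →ₗ[F] M27 :=
  ∑ x : Cfsg.Lie.ChevalleyDatum.Idx DE6, (LinearMap.proj x).smulRight (toM (liftN (idxNat x)))

theorem lift_apply (v : V78) :
    lift v = ∑ x : Cfsg.Lie.ChevalleyDatum.Idx DE6, v x • (toM (liftN (idxNat x)) : M27) := by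
  simp [lift]

theorem lift_single (x : Cfsg.Lie.ChevalleyDatum.Idx DE6) :
    lift (Pi.single x (1 : F)) = toM (liftN (idxNat x)) := by
  rw [lift_apply, Finset.sum_eq_single x (fun y _ hy => by simp [Pi.single_eq_of_ne hy]) (by simp)]
  simp

theorem toM_liftCol : ∀ v : SVec, Bounded DE6 v →
    (toM (liftCol v) : M27) = lift fun x => ((get v (idxNat x) : ℤ) : F)
  | [], _ => by
    rw [lift_apply]
    simp [liftCol]
  | p :: v, hv => by
    obtain ⟨y, hy⟩ := exists_idxNat (D := DE6) (hv p List.mem_cons_self)
    have hfun : (fun x => ((get (p :: v) (idxNat (D := DE6) x) : ℤ) : F)) =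
        (p.2 : F) • Pi.single y (1 : F) + fun x => ((get v (idxNat x) : ℤ) : F) := by
      funext x
      rw [get_cons, Int.cast_add, Pi.add_apply, Pi.smul_apply, smul_eq_mul]
      congr 1
      by_cases hxy : x = y
      · subst hxy; simp [hy]
      · have : p.1 ≠ idxNat x := fun e' => hxy (idxNat_inj (e'.symm.trans hy.symm))
        simp [this, Pi.single_eq_of_ne hxy]
    rw [hfun, map_add, map_smul, lift_single, hy,
      ← toM_liftCol v fun q hq => hv q (List.mem_cons_of_mem _ hq),
      show liftCol (p :: v) = smulS p.2 (liftN p.1) ++ liftCol v from rfl, toM_append, toM_smulS]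

/-- the position of the first entry of a root vector -/
def rpos (r : ℕ) : Fin 27 × Fin 27 × ℤ := (rootM r).headD (0, 0, 0)

/-- coordinates with respect to the basis -/
def scM : M27 →ₗ[F] V78 where
  toFun M x :=
    match x with
    | .inl i => ∑ j : Fin 6, (invW i j : F) * M (six j) (six j)
    | .inr r => ((rpos r.val).2.2 : F) * M (rpos r.val).1 (rpos r.val).2.1
  map_add' M N := by
    funext x
    rcases x with i | r
    · simp only [Matrix.add_apply, mul_add, Finset.sum_add_distrib, Pi.add_apply]
    · simp only [Matrix.add_apply, mul_add, Pi.add_apply]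
  map_smul' c M := by
    funext x
    rcases x with i | r
    · simp only [Matrix.smul_apply, smul_eq_mul, RingHom.id_apply, Pi.smul_apply, Finset.mul_sum]
      exact Finset.sum_congr rfl fun j _ => by ring
    · simp only [Matrix.smul_apply, smul_eq_mul, RingHom.id_apply, Pi.smul_apply]
      ring

/-- entry of a sparse matrix -/
def ent (L : Sp) (a b : Fin 27) : ℤ := get (code L) (27 * a.val + b.val)

theorem toM_apply (L : Sp) (a b : Fin 27) : (toM L : M27) a b = ((ent L a b : ℤ) : F) := by
  rw [entry_eq_evalV, ent]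
  generalize code L = v
  induction v with
  | nil => simp [evalV]
  | cons p v ih =>
    rw [evalV_cons, get_cons, Int.cast_add, ih]
    congr 1
    by_cases hp : p.1 = 27 * a.val + b.val <;> simp [hp]

/-- `scM` inverts `lift` on the basis -/
def leftInvOK : Bool :=
  (List.range 78).all fun j =>
    (List.finRange 6).all (fun i =>
      decide (∑ k : Fin 6, invW i k * ent (liftN j) (six k) (six k) = if i.val = j then 1 else 0)) &&
    (List.range 72).all (fun r =>
      decide ((rpos r).2.2 * ent (liftN j) (rpos r).1 (rpos r).2.1 = if 6 + r = j then 1 else 0))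

theorem leftInv_ok : leftInvOK = true := by decide +kernel

theorem scM_lift (v : V78) : scM (lift v) = v := by
  have key : ∀ x : Cfsg.Lie.ChevalleyDatum.Idx DE6,
      scM (toM (liftN (idxNat x)) : M27) = Pi.single x 1 := by
    intro x
    have h := List.all_eq_true.1 leftInv_ok (idxNat x) (List.mem_range.2 (idxNat_lt x))
    simp only [Bool.and_eq_true, List.all_eq_true, decide_eq_true_eq] at h
    funext y
    rw [Pi.single_apply]
    rcases y with i | r
    · have h1 := congrArg (Int.cast : ℤ → F) (h.1 i (List.mem_finRange _))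
      simp only [scM, LinearMap.coe_mk, AddHom.coe_mk, toM_apply]
      push_cast at h1
      rw [h1]
      exact if_congr ⟨fun e' => idxNat_inj (D := DE6) (a₁ := .inl i) e',
        fun e' => congrArg idxNat e'⟩ (by simp) (by simp)
    · have h1 := congrArg (Int.cast : ℤ → F) (h.2 r.val (List.mem_range.2 r.isLt))
      simp only [scM, LinearMap.coe_mk, AddHom.coe_mk, toM_apply]
      push_cast at h1
      rw [h1]
      exact if_congr ⟨fun e' => idxNat_inj (D := DE6) (a₁ := .inr r) e',
        fun e' => congrArg idxNat e'⟩ (by simp) (by simp)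
  rw [lift_apply, map_sum]
  simp only [map_smul, key]
  funext y
  simp [Finset.sum_apply, Pi.single_apply]

/-- conjugation of the embedded adjoint module -/
def conjL (g : GL (Fin 27) F) : V78 →ₗ[F] M27 :=
  (LinearMap.mulLeft F (g : M27)).comp ((LinearMap.mulRight F ((g⁻¹ : GL (Fin 27) F) : M27)).comp lift)

theorem conjL_apply (g : GL (Fin 27) F) (v : V78) :
    conjL g v = (g : M27) * (lift v * ((g⁻¹ : GL (Fin 27) F) : M27)) := rfl

theorem conjL_mul (g h : GL (Fin 27) F) (v : V78) :
    conjL (g * h) v = (g : M27) * (conjL h v * ((g⁻¹ : GL (Fin 27) F) : M27)) := by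
  simp [conjL_apply, _root_.mul_inv_rev, Matrix.mul_assoc]

theorem X_conj (r : Fin 72) (t : F) (x : Cfsg.Lie.ChevalleyDatum.Idx DE6) :
    conjL (X r t) (Pi.single x 1) = lift fun y => xR DE6 F r.val t y x := by
  have hx : (fun y => xR DE6 F r.val t y x) =
      ∑ k ∈ Finset.range 4, t ^ k • fun y => ((get (aCol DE6 r.val k (idxNat x)) (idxNat y) : ℤ) : F) := by
    funext y
    simp only [xR, Matrix.of_apply, Finset.sum_apply, Pi.smul_apply, smul_eq_mul, aMat_eq_get]
    exact Finset.sum_congr rfl fun k _ => mul_comm _ _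
  rw [hx, map_sum]
  have h : ∀ k ∈ Finset.range 4,
      lift (t ^ k • fun y => ((get (aCol DE6 r.val k (idxNat x)) (idxNat y) : ℤ) : F)) =
        t ^ k • (toM (conjC r.val (idxNat x) k) : M27) := by
    intro k hk
    obtain ⟨hb, hs⟩ := adjointOK_all r hk x
    rw [map_smul, toM_eq_of_same hs, toM_liftCol _ hb]
  rw [Finset.sum_congr rfl h]
  simp only [Finset.sum_range_succ, Finset.sum_range_zero, zero_add, conjC, if_true, if_false,
    one_ne_zero, OfNat.ofNat_ne_zero, OfNat.ofNat_ne_one, toM_append, toM_smulS, toM_mulS, toM_nil,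
    smul_zero, add_zero, show (2 : ℕ) ≠ 1 by omega, show (3 : ℕ) ≠ 1 by omega, show (3 : ℕ) ≠ 2 by omega]
  rw [conjL_apply, lift_single, X_inv, X_val, X_val]
  simp only [← Mr.eq_def, Int.cast_neg, Int.cast_one, neg_smul, one_smul, pow_zero, pow_one,
    Matrix.add_mul, Matrix.mul_add, Matrix.one_mul, Matrix.mul_one, Matrix.smul_mul, Matrix.mul_smul,
    Matrix.mul_assoc, smul_neg, smul_add, smul_smul, Matrix.mul_neg]
  module

/-- conjugation keeps the adjoint module -/
def Keeps (g : GL (Fin 27) F) : Prop := ∀ v : V78, lift (scM (conjL g v)) = conjL g v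

theorem keeps_of_mem {g : GL (Fin 27) F} (hg : g ∈ Elem F) : Keeps g := by
  have gen : ∀ (r : Fin 72) (t : F), Keeps (X r t) := by
    intro r t v
    have e' : v = ∑ x, v x • (Pi.single x 1 : V78) := by
      funext y; simp [Finset.sum_apply, Pi.single_apply]
    rw [e', map_sum, map_sum, map_sum]
    refine Finset.sum_congr rfl fun x _ => ?_
    rw [map_smul, map_smul, map_smul, X_conj, scM_lift]
  have mul : ∀ a b : GL (Fin 27) F, Keeps a → Keeps b → Keeps (a * b) := by
    intro a b ha hb v
    have h1 : conjL (a * b) v = conjL a (scM (conjL b v)) := by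
      rw [conjL_mul, conjL_apply a, hb v]
    rw [h1]
    exact ha _
  induction hg using Subgroup.closure_induction_left with
  | one => intro v; simp [conjL_apply, scM_lift]
  | mul_left x hx y _ ih => obtain ⟨r, t, rfl⟩ := hx; exact mul _ _ (gen r t) ih
  | inv_mul_cancel x hx y _ ih => obtain ⟨r, t, rfl⟩ := hx; rw [X_inv]; exact mul _ _ (gen r (-t)) ih

/-- the adjoint representation -/
noncomputable def psi : Elem F →* GL (Cfsg.Lie.ChevalleyDatum.Idx DE6) F :=
  MonoidHom.toHomUnits
    { toFun := fun g => LinearMap.toMatrix' (scM.comp (conjL g.1))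
      map_one' := by
        rw [show scM.comp (conjL (1 : Elem F).1) = (LinearMap.id : V78 →ₗ[F] V78) from
          LinearMap.ext fun v => by simp [conjL_apply, scM_lift]]
        exact LinearMap.toMatrix'_id
      map_mul' := fun g h => by
        rw [← LinearMap.toMatrix'_comp]
        congr 1
        refine LinearMap.ext fun v => ?_
        simp only [LinearMap.comp_apply, Subgroup.coe_mul]
        rw [conjL_mul, conjL_apply g.1 (scM (conjL h.1 v)), keeps_of_mem h.2 v] }

/-- root elements of `Elem` -/
def xe (r : Fin 72) (t : F) : Elem F := ⟨X r t, X_mem_Elem r t⟩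

theorem psi_xe (r : Fin 72) (t : F) :
    ((psi (xe r t)) : Matrix (Cfsg.Lie.ChevalleyDatum.Idx DE6) (Cfsg.Lie.ChevalleyDatum.Idx DE6) F) =
      Cfsg.Lie.ChevalleyDatum.xMat DE6 F r t := by
  obtain ⟨C⟩ := exists_cert (D := DE6) (by simp)
  have hx : Cfsg.Lie.ChevalleyDatum.xMat DE6 F r t = xR DE6 F r.val t :=
    (dif_pos (c := r.val < 72) r.isLt).symm.trans (C.x_eq (F := F) (r := r.val) r.isLt t)
  rw [hx]
  refine Matrix.ext fun y x => ?_
  change LinearMap.toMatrix' (scM.comp (conjL (X r t))) y x = _
  rw [LinearMap.toMatrix'_apply, LinearMap.comp_apply, X_conj, scM_lift]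

theorem psi_range : (psi (F := F)).range = Cfsg.Lie.ChevalleyDatum.group DE6 F := by
  refine le_antisymm ?_ ((Subgroup.closure_le _).2 ?_)
  · have hgen : (Subgroup.closure ((Subtype.val : Elem F → GL (Fin 27) F) ⁻¹'
        {g | ∃ r t, g = X r t}) : Subgroup (Elem F)) = ⊤ :=
      Subgroup.closure_closure_coe_preimage
    rw [MonoidHom.range_eq_map, ← hgen, MonoidHom.map_closure]
    refine (Subgroup.closure_le _).2 ?_
    rintro x ⟨g, ⟨r, t, hg⟩, rfl⟩
    refine Subgroup.subset_closure ⟨r, t, ?_⟩
    rw [← psi_xe]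
    rw [show g = xe r t from Subtype.ext hg]
  · rintro x ⟨r, t, hx⟩
    exact ⟨xe r t, Units.ext ((psi_xe r t).trans hx.symm)⟩

/-- moves from the top coordinate to all others -/
def spreadL : List (ℕ × Fin 27 × Fin 27) :=
  [(0, 13, 14), (1, 13, 20), (2, 13, 19), (3, 13, 18), (5, 13, 2), (6, 13, 5), (8, 13, 8), (11, 13, 10), (16, 13, 0), (17, 13, 3), (19, 13, 6), (22, 13, 12), (26, 13, 16), (30, 13, 26), (33, 13, 25), (35, 13, 24), (11, 14, 11), (26, 14, 17), (30, 14, 23), (33, 14, 22), (35, 14, 21), (33, 20, 1), (35, 20, 4), (35, 19, 7), (35, 2, 9), (35, 0, 15)]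

/-- what makes the representation irreducible -/
def irrOK : Bool :=
  (List.finRange 27).all (fun b => decide (b = 13) || (List.range 72).any fun r =>
    decide (36 ≤ r) && (List.finRange 27).any (fun a => unitAt b (rowM r a)) &&
      (rootM r).all fun p => decide (p.2.1 ≠ 13)) &&
  (List.range spreadL.length).all (fun k =>
    let q := spreadL.getD k (0, 0, 0)
    decide (q.1 < 72) && unitAt q.2.1 (rowM q.1 q.2.2) &&
      (rootM q.1).all (fun p => decide (p.2.1 = q.2.1 → p.1 = q.2.2)) &&
      decide (q.2.1 ∈ (13 : Fin 27) :: (spreadL.take k).map fun x => x.2.2)) &&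
  (List.finRange 27).all fun a => decide (a ∈ (13 : Fin 27) :: spreadL.map fun x => x.2.2)

theorem irr_ok : irrOK = true := by decide +kernel

theorem scalar_of_commute {g : GL (Fin 27) F}
    (h : ∀ r : Fin 72, (g : M27) * Mr r.val = Mr r.val * (g : M27)) :
    ∃ c : F, (g : M27) = c • (1 : M27) := by
  have hok := irr_ok
  simp only [irrOK, Bool.and_eq_true, List.all_eq_true, Bool.or_eq_true, decide_eq_true_eq,
    List.any_eq_true] at hok
  obtain ⟨⟨htop, hspread⟩, htot⟩ := hok
  have hcomm : ∀ (r : Fin 72) (v : Fin 27 → F),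
      act g (fun a => actS (rootM r.val) v a) = fun a => actS (rootM r.val) (act g v) a := by
    intro r v
    simp only [← toM_mulVec, act, Matrix.mulVec_mulVec]
    exact congrArg (· *ᵥ v) (h r)
  have hzero : ∀ b : Fin 27, b ≠ 13 → act g (e 13) b = 0 := by
    intro b hb
    obtain ⟨r, hr, ⟨-, a, -, ha⟩, hp⟩ := (htop b (List.mem_finRange b)).resolve_left hb
    obtain ⟨c, hc, hc'⟩ := unitAt_sum (F := F) ha
    have h0 := congrFun (hcomm ⟨r, List.mem_range.1 hr⟩ (e 13)) a
    have hz : (fun a => actS (rootM r) (e 13 : Fin 27 → F) a) = 0 := by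
      funext a
      refine List.sum_eq_zero fun x hx => ?_
      obtain ⟨w, hw, rfl⟩ := List.mem_map.1 hx
      simp [e, hp w (List.mem_filter.1 hw).1]
    rw [actS_row r (act g (e 13)), hc'] at h0
    simp only [hz] at h0
    simpa [act, hc, show (fun _ => (0 : F)) = (0 : Fin 27 → F) from rfl] using h0.symm
  refine ⟨act g (e 13) 13, ?_⟩
  set c := act g (e 13) 13 with hc13
  have h13 : act g (e 13) = c • e 13 := by
    funext b
    by_cases hb : b = 13
    · subst hb; rw [Pi.smul_apply, e, Pi.single_eq_same, smul_eq_mul, mul_one, hc13, e]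
    · rw [hzero b hb]; simp [e, hb]
  have key : ∀ n, n ≤ spreadL.length →
      ∀ a ∈ (13 : Fin 27) :: (spreadL.take n).map (fun x => x.2.2), act g (e a) = c • e a := by
    intro n
    induction n with
    | zero => intro _ a ha; simp at ha; subst ha; exact h13
    | succ n ih =>
      intro hn a ha
      have hn' := Nat.lt_of_succ_le hn
      rw [List.take_succ_eq_append_getElem hn', List.map_append, ← List.cons_append,
        List.mem_append] at ha
      rcases ha with ha | ha
      · exact ih (Nat.le_of_succ_le hn) a ha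
      · obtain ⟨⟨⟨h1, h2⟩, h3⟩, h4⟩ := hspread n (List.mem_range.2 hn')
        simp only [List.getD_eq_getElem _ _ hn'] at h1 h2 h3 h4
        simp only [List.map_cons, List.map_nil, List.mem_singleton] at ha
        obtain ⟨k, hk, hk'⟩ := unitAt_sum (F := F) h2
        have hcol : (fun a => actS (rootM spreadL[n].1) (e spreadL[n].2.1 : Fin 27 → F) a) =
            k • e spreadL[n].2.2 := by
          funext b
          rw [actS_row]
          by_cases hb : b = spreadL[n].2.2
          · subst hb; rw [hk']; simp [e]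
          · rw [← actS_row]
            simp only [Pi.smul_apply, e, Pi.single_eq_of_ne hb, smul_zero]
            refine List.sum_eq_zero fun x hx => ?_
            obtain ⟨w, hw, rfl⟩ := List.mem_map.1 hx
            obtain ⟨hw1, hw2⟩ := List.mem_filter.1 hw
            simp only [decide_eq_true_eq] at hw2
            have : w.2.1 ≠ spreadL[n].2.1 := fun e' => hb (hw2 ▸ h3 w hw1 e')
            simp [Pi.single_eq_of_ne this]
        have h5 := hcomm ⟨_, h1⟩ (e spreadL[n].2.1)
        rw [hcol, ih (Nat.le_of_succ_le hn) _ h4] at h5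
        have h6 : (fun a => actS (rootM spreadL[n].1) (c • e spreadL[n].2.1 : Fin 27 → F) a) =
            c • k • e spreadL[n].2.2 := by
          rw [← hcol]
          funext b
          simp only [← toM_mulVec, Matrix.mulVec_smul, Pi.smul_apply]
        rw [h6, act, Matrix.mulVec_smul, smul_comm c k] at h5
        rw [ha]
        exact (smul_right_injective _ hk) h5
  refine Matrix.ext_iff_mulVec.2 fun v => ?_
  have hv : v = ∑ a, v a • e a := by
    funext i; simp [Finset.sum_apply, e, Pi.single_apply]
  have hall : ∀ a, (g : M27) *ᵥ e a = c • e a := fun a => by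
    have := key spreadL.length le_rfl a
    rw [List.take_length] at this
    exact this (htot a (List.mem_finRange a))
  conv_lhs => rw [hv]
  rw [Matrix.smul_mulVec, Matrix.one_mulVec, Matrix.mulVec_sum]
  simp only [Matrix.mulVec_smul, hall, smul_comm _ c, ← Finset.smul_sum, ← hv]

theorem psi_ker : (psi (F := F)).ker = Subgroup.center (Elem F) := by
  ext g
  rw [MonoidHom.mem_ker, Subgroup.mem_center_iff]
  constructor
  · intro h
    have hfix : ∀ v : V78, conjL g.1 v = lift v := by
      intro v
      have h' := congrArg (fun x : GL (Cfsg.Lie.ChevalleyDatum.Idx DE6) F =>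
        (x : Matrix (Cfsg.Lie.ChevalleyDatum.Idx DE6) (Cfsg.Lie.ChevalleyDatum.Idx DE6) F) *ᵥ v) h
      change LinearMap.toMatrix' (scM.comp (conjL g.1)) *ᵥ v =
        (1 : Matrix (Cfsg.Lie.ChevalleyDatum.Idx DE6) _ F) *ᵥ v at h'
      rw [LinearMap.toMatrix'_mulVec, Matrix.one_mulVec, LinearMap.comp_apply] at h'
      rw [← keeps_of_mem g.2 v, h']
    obtain ⟨c, hc⟩ := scalar_of_commute (g := g.1) fun r => by
      obtain ⟨x, hx⟩ := exists_idxNat (D := DE6) (show 6 + r.val < 6 + 72 by omega)
      have h1 := hfix (Pi.single x 1)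
      rw [conjL_apply, lift_single, hx] at h1
      have h2 : (toM (liftN (6 + r.val)) : M27) = Mr r.val := by
        rw [liftN, dif_neg (by omega), Nat.add_sub_cancel_left, Mr]
      rw [h2, ← Matrix.mul_assoc] at h1
      calc (g.1 : M27) * Mr r.val
          = (g.1 : M27) * Mr r.val * ((g.1⁻¹ : GL (Fin 27) F) : M27) * (g.1 : M27) := by
            rw [Matrix.mul_assoc _ ((g.1⁻¹ : GL (Fin 27) F) : M27), ← Units.val_mul, inv_mul_cancel,
              Units.val_one, Matrix.mul_one]
        _ = _ := by rw [h1]
    intro x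
    refine Subtype.ext (Units.ext ?_)
    change (x.1 : M27) * (g.1 : M27) = (g.1 : M27) * (x.1 : M27)
    rw [hc]; simp
  · intro h
    obtain ⟨c, hc⟩ := scalar_of_commute (g := g.1) fun r => by
      have h1 := congrArg (fun x : Elem F => (x.1 : M27)) (h (xe r 1))
      simp only [xe, Subgroup.coe_mul, Units.val_mul, X_val, one_smul, Matrix.add_mul, Matrix.mul_add,
        Matrix.one_mul, Matrix.mul_one] at h1
      exact (add_left_cancel h1).symm
    refine Units.ext (Matrix.ext_iff_mulVec.2 fun v => ?_)
    change LinearMap.toMatrix' (scM.comp (conjL g.1)) *ᵥ v =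
      (1 : Matrix (Cfsg.Lie.ChevalleyDatum.Idx DE6) _ F) *ᵥ v
    rw [LinearMap.toMatrix'_mulVec, Matrix.one_mulVec, LinearMap.comp_apply, conjL_apply,
      ← Matrix.mul_assoc, show (g.1 : M27) * lift v = lift v * (g.1 : M27) by rw [hc]; simp,
      Matrix.mul_assoc, ← Units.val_mul, mul_inv_cancel, Units.val_one, Matrix.mul_one, scM_lift]

/-- the group generated by the root elements modulo its centre is the Chevalley group -/
theorem elem_equiv :
    Nonempty ((Elem F ⧸ Subgroup.center (Elem F)) ≃* ↥(Cfsg.Lie.ChevalleyDatum.group DE6 F)) :=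
  ⟨((QuotientGroup.quotientMulEquivOfEq (psi_ker (F := F)).symm).trans
    (QuotientGroup.quotientKerEquivRange psi)).trans (MulEquiv.subgroupCongr psi_range)⟩

end Cfsg.Agent.H99.E6
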