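import Cfsg.Agent.H99.E6.Sparse
import Cfsg.Prelude.Def_E6

/-! The cubic form in 27 numbered coordinates, its root elements, and the group they generate. -/

set_option autoImplicit false
set_option maxHeartbeats 1000000

namespace Cfsg.Agent.H99.E6

open Cfsg.Agent.Chevalley (sameVec)
open Matrix

/-- the numbering of the coordinates -/
def ix : Fin 27 ≃ Cfsg.Lie.I27 where
  toFun n := (⟨n.val / 9, by omega⟩, ⟨n.val / 3 % 3, by omega⟩, ⟨n.val % 3, by omega⟩)
  invFun p := ⟨9 * p.1.val + 3 * p.2.1.val + p.2.2.val, by omega⟩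
  left_inv n := by ext; simp only; omega
  right_inv p := by
    rcases p with ⟨a, b, c⟩
    simp only [Prod.mk.injEq, Fin.ext_iff]
    omega

variable {F : Type*} [Field F]

/-- the cubic form -/
abbrev T (v : Fin 27 → F) : F := evalC mons v

theorem cubicT_eq (w : Cfsg.Lie.I27 → F) : Cfsg.Lie.cubicT w = T (w ∘ ix) := by
  simp [Cfsg.Lie.cubicT, Cfsg.Lie.mat3, evalC, mons, Matrix.det_fin_three, Matrix.trace,
    Matrix.mul_apply, Fin.sum_univ_three, ix]
  ring

/-- a root vector is square zero -/
def sqZero (r : ℕ) : Bool := sameM (mulS (rootM r) (rootM r)) []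

/-- a root element preserves the form -/
def invar (r : ℕ) : Bool := sameVec (substC mons (rootM r)) (codeC mons)

theorem sqZero_ok : ∀ r : Fin 72, sqZero r.val = true := by decide +kernel

theorem invar_ok : ∀ r : Fin 72, invar r.val = true := by decide +kernel

/-- the root vectors over `F` -/
def Mr (r : ℕ) : Matrix (Fin 27) (Fin 27) F := toM (rootM r)

theorem Mr_sq (r : Fin 72) : (Mr r.val : Matrix (Fin 27) (Fin 27) F) * Mr r.val = 0 := by
  rw [Mr, ← toM_mulS, toM_eq_of_same (sqZero_ok r), toM_nil]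

/-- root elements -/
def X (r : Fin 72) (t : F) : GL (Fin 27) F where
  val := 1 + t • Mr r.val
  inv := 1 - t • Mr r.val
  val_inv := by
    simp only [Matrix.add_mul, Matrix.mul_sub, Matrix.one_mul, Matrix.mul_one, Matrix.smul_mul,
      Matrix.mul_smul, Mr_sq, smul_zero, sub_zero]
    abel
  inv_val := by
    simp only [Matrix.sub_mul, Matrix.mul_add, Matrix.one_mul, Matrix.mul_one, Matrix.smul_mul,
      Matrix.mul_smul, Mr_sq, smul_zero, add_zero]
    abel

theorem X_val (r : Fin 72) (t : F) :
    ((X r t : GL (Fin 27) F) : Matrix (Fin 27) (Fin 27) F) = 1 + t • Mr r.val := rfl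

theorem X_inv (r : Fin 72) (t : F) : (X r t)⁻¹ = X r (-t) :=
  Units.ext (show 1 - t • Mr r.val = 1 + -t • Mr r.val by rw [neg_smul, sub_eq_add_neg])

/-- the action of a group element on vectors -/
abbrev act (g : GL (Fin 27) F) (v : Fin 27 → F) : Fin 27 → F :=
  (g : Matrix (Fin 27) (Fin 27) F) *ᵥ v

theorem act_mul (g h : GL (Fin 27) F) (v : Fin 27 → F) : act (g * h) v = act g (act h v) := by
  simp [act, Matrix.mulVec_mulVec]

theorem act_one (v : Fin 27 → F) : act (1 : GL (Fin 27) F) v = v := by simp [act]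

theorem act_inv_cancel (g : GL (Fin 27) F) (v : Fin 27 → F) : act g⁻¹ (act g v) = v := by
  rw [← act_mul, inv_mul_cancel, act_one]

theorem act_X (r : Fin 72) (t : F) (v : Fin 27 → F) :
    act (X r t) v = fun a => v a + t * actS (rootM r.val) v a := by
  funext a
  rw [act, X_val, Matrix.add_mulVec, Matrix.one_mulVec, Matrix.smul_mulVec, Pi.add_apply,
    Pi.smul_apply, smul_eq_mul, Mr, toM_mulVec]

/-- the stabiliser of the form -/
def Stab (F : Type*) [Field F] : Subgroup (GL (Fin 27) F) :=
  Cfsg.Lie.funStab F (fun v : Fin 27 → F => T v)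

theorem mem_Stab {g : GL (Fin 27) F} : g ∈ Stab F ↔ ∀ v, T (act g v) = T v := Iff.rfl

theorem X_mem (r : Fin 72) (t : F) : X r t ∈ Stab F := by
  rw [mem_Stab]
  intro v
  rw [act_X]
  have h := evalV_eq_of_same (monVal t v) (invar_ok r)
  rwa [evalV_substC, evalV_codeC] at h

/-- the group generated by the root elements -/
def Elem (F : Type*) [Field F] : Subgroup (GL (Fin 27) F) :=
  Subgroup.closure {g | ∃ r t, g = X r t}

theorem X_mem_Elem (r : Fin 72) (t : F) : X r t ∈ Elem F := Subgroup.subset_closure ⟨r, t, rfl⟩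

theorem Elem_le : Elem F ≤ Stab F := by
  rw [Elem, Subgroup.closure_le]
  rintro g ⟨r, t, rfl⟩
  exact X_mem r t

/-! ### polarisations -/

/-- the derivative of the form at `x` in direction `z` -/
def P (x z : Fin 27 → F) : F :=
  (mons.map fun m => (m.1 : F) * (x m.2.1 * x m.2.2.1 * z m.2.2.2 + x m.2.1 * z m.2.2.1 * x m.2.2.2 +
    z m.2.1 * x m.2.2.1 * x m.2.2.2)).sum

/-- the symmetrisation of the form -/
def tri (x y z : Fin 27 → F) : F := P (x + y) z - P x z - P y z

theorem T_line (x z : Fin 27 → F) (t : F) :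
    T (x + t • z) = T x + t * P x z + t ^ 2 * P z x + t ^ 3 * T z := by
  unfold T evalC P
  induction mons with
  | nil => simp
  | cons m L ih =>
    simp only [Pi.add_apply, Pi.smul_apply, smul_eq_mul] at ih ⊢
    simp only [List.map_cons, List.sum_cons, ih]
    ring

variable {g : GL (Fin 27) F}

theorem P_act (hF : ∃ t : F, t ≠ 0 ∧ t ≠ 1) (hg : g ∈ Stab F) (x z : Fin 27 → F) :
    P (act g x) (act g z) = P x z := by
  obtain ⟨t, ht0, ht1⟩ := hF
  rw [mem_Stab] at hg
  have key : ∀ s : F, s * P (act g x) (act g z) + s ^ 2 * P (act g z) (act g x) =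
      s * P x z + s ^ 2 * P z x := by
    intro s
    have h := hg (x + s • z)
    rw [show act g (x + s • z) = act g x + s • act g z by
      simp [act, Matrix.mulVec_add, Matrix.mulVec_smul], T_line, T_line, hg x, hg z] at h
    linear_combination h
  have h1 := key 1
  have ht := key t
  have : (t - t ^ 2) * (P (act g x) (act g z) - P x z) = 0 := by linear_combination ht - t ^ 2 * h1
  rcases mul_eq_zero.1 this with h | h
  · exfalso
    have : t * (1 - t) = 0 := by linear_combination h
    rcases mul_eq_zero.1 this with h' | h'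
    · exact ht0 h'
    · exact ht1 (sub_eq_zero.1 h').symm
  · exact sub_eq_zero.1 h

theorem tri_act (hF : ∃ t : F, t ≠ 0 ∧ t ≠ 1) (hg : g ∈ Stab F) (x y z : Fin 27 → F) :
    tri (act g x) (act g y) (act g z) = tri x y z := by
  simp only [tri, ← show act g (x + y) = act g x + act g y by simp [act, Matrix.mulVec_add],
    P_act hF hg]

theorem tri_eq (x y z : Fin 27 → F) : tri x y z = (mons.map fun m => (m.1 : F) *
    (x m.2.1 * y m.2.2.1 * z m.2.2.2 + y m.2.1 * x m.2.2.1 * z m.2.2.2 +
      x m.2.1 * z m.2.2.1 * y m.2.2.2 + y m.2.1 * z m.2.2.1 * x m.2.2.2 +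
      z m.2.1 * x m.2.2.1 * y m.2.2.2 + z m.2.1 * y m.2.2.1 * x m.2.2.2)).sum := by
  unfold tri P
  induction mons with
  | nil => simp
  | cons m L ih =>
    simp only [Pi.add_apply] at ih ⊢
    simp only [List.map_cons, List.sum_cons, ← ih]
    ring

theorem tri_smul_left (c : F) (x y z : Fin 27 → F) : tri (c • x) y z = c * tri x y z := by
  simp only [tri_eq, ← List.sum_map_mul_left, Pi.smul_apply, smul_eq_mul]
  exact congrArg List.sum (List.map_congr_left fun m _ => by ring)

theorem tri_smul_mid (c : F) (x y z : Fin 27 → F) : tri x (c • y) z = c * tri x y z := by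
  simp only [tri_eq, ← List.sum_map_mul_left, Pi.smul_apply, smul_eq_mul]
  exact congrArg List.sum (List.map_congr_left fun m _ => by ring)

theorem tri_smul_right (c : F) (x y z : Fin 27 → F) : tri x y (c • z) = c * tri x y z := by
  simp only [tri_eq, ← List.sum_map_mul_left, Pi.smul_apply, smul_eq_mul]
  exact congrArg List.sum (List.map_congr_left fun m _ => by ring)

end Cfsg.Agent.H99.E6
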