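import Mathlib

/-! The data of the 27-dimensional representation of the group of type `E₆` on `M₃(F)³`:
monomials of the cubic form, root vectors, weights, and the certificates used for the
description of its stabiliser.  Coordinate `n` stands for `(n / 9, n / 3 % 3, n % 3)`. -/

set_option autoImplicit false
set_option maxHeartbeats 4000000

namespace Cfsg.Agent.H99.E6

/-- sparse 27 × 27 matrices over the integers: row, column, entry -/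
abbrev Sp := List (Fin 27 × Fin 27 × ℤ)

/-- cubic forms: coefficient and three variables -/
abbrev Cub := List (ℤ × Fin 27 × Fin 27 × Fin 27)

/-- the monomials of the cubic form -/
def mons : Cub :=
  [(1, 0, 4, 8), (-1, 0, 5, 7), (-1, 1, 3, 8), (1, 1, 5, 6), (1, 2, 3, 7),
    (-1, 2, 4, 6), (1, 9, 13, 17), (-1, 9, 14, 16), (-1, 10, 12, 17), (1, 10, 14, 15),
    (1, 11, 12, 16), (-1, 11, 13, 15), (1, 18, 22, 26), (-1, 18, 23, 25), (-1, 19, 21, 26),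
    (1, 19, 23, 24), (1, 20, 21, 25), (-1, 20, 22, 24), (-1, 0, 9, 18), (-1, 0, 10, 21),
    (-1, 0, 11, 24), (-1, 1, 12, 18), (-1, 1, 13, 21), (-1, 1, 14, 24), (-1, 2, 15, 18),
    (-1, 2, 16, 21), (-1, 2, 17, 24), (-1, 3, 9, 19), (-1, 3, 10, 22), (-1, 3, 11, 25),
    (-1, 4, 12, 19), (-1, 4, 13, 22), (-1, 4, 14, 25), (-1, 5, 15, 19), (-1, 5, 16, 22),
    (-1, 5, 17, 25), (-1, 6, 9, 20), (-1, 6, 10, 23), (-1, 6, 11, 26), (-1, 7, 12, 20),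
    (-1, 7, 13, 23), (-1, 7, 14, 26), (-1, 8, 15, 20), (-1, 8, 16, 23), (-1, 8, 17, 26)]

/-- the root vectors, in the order of the tables -/
def rootM (r : ℕ) : Sp :=
  ([
    [(11, 10, 1), (14, 13, 1), (17, 16, 1), (21, 24, -1), (22, 25, -1), (23, 26, -1)],
    [(1, 25, 1), (4, 24, -1), (11, 8, -1), (17, 6, 1), (20, 13, 1), (23, 12, -1)],
    [(1, 26, -1), (7, 24, 1), (11, 5, -1), (17, 3, 1), (19, 13, 1), (22, 12, -1)],
    [(4, 26, 1), (7, 25, -1), (11, 2, -1), (17, 0, 1), (18, 13, 1), (21, 12, -1)],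
    [(11, 9, 1), (14, 12, 1), (17, 15, 1), (18, 24, -1), (19, 25, -1), (20, 26, -1)],
    [(1, 16, 1), (2, 13, -1), (9, 24, -1), (11, 18, 1), (22, 6, 1), (23, 3, -1)],
    [(4, 16, -1), (5, 13, 1), (9, 25, 1), (11, 19, -1), (21, 6, 1), (23, 0, -1)],
    [(2, 25, 1), (5, 24, -1), (11, 7, 1), (14, 6, -1), (20, 16, 1), (23, 15, -1)],
    [(7, 16, 1), (8, 13, -1), (9, 26, -1), (11, 20, 1), (21, 3, 1), (22, 0, -1)],
    [(2, 26, -1), (8, 24, 1), (11, 4, 1), (14, 3, -1), (19, 16, 1), (22, 15, -1)],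
    [(5, 26, 1), (8, 25, -1), (11, 1, 1), (14, 0, -1), (18, 16, 1), (21, 15, -1)],
    [(1, 0, 1), (4, 3, 1), (7, 6, 1), (9, 12, -1), (10, 13, -1), (11, 14, -1)],
    [(1, 15, 1), (2, 12, -1), (10, 24, 1), (11, 21, -1), (19, 6, 1), (20, 3, -1)],
    [(4, 15, -1), (5, 12, 1), (10, 25, -1), (11, 22, 1), (18, 6, 1), (20, 0, -1)],
    [(7, 15, 1), (8, 12, -1), (10, 26, 1), (11, 23, -1), (18, 3, 1), (19, 0, -1)],
    [(2, 0, 1), (5, 3, 1), (8, 6, 1), (9, 15, -1), (10, 16, -1), (11, 17, -1)],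
    [(0, 13, -1), (1, 10, 1), (15, 24, 1), (17, 18, -1), (22, 8, -1), (23, 5, 1)],
    [(3, 13, 1), (4, 10, -1), (15, 25, -1), (17, 19, 1), (21, 8, -1), (23, 2, 1)],
    [(0, 25, 1), (3, 24, -1), (14, 8, 1), (17, 7, -1), (20, 10, 1), (23, 9, -1)],
    [(6, 13, -1), (7, 10, 1), (15, 26, 1), (17, 20, -1), (21, 5, -1), (22, 2, 1)],
    [(0, 26, -1), (6, 24, 1), (14, 5, 1), (17, 4, -1), (19, 10, 1), (22, 9, -1)],
    [(3, 26, 1), (6, 25, -1), (14, 2, 1), (17, 1, -1), (18, 10, 1), (21, 9, -1)],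
    [(9, 10, -1), (12, 13, -1), (15, 16, -1), (21, 18, 1), (22, 19, 1), (23, 20, 1)],
    [(0, 16, 1), (2, 10, -1), (12, 24, 1), (14, 18, -1), (22, 7, -1), (23, 4, 1)],
    [(3, 16, -1), (5, 10, 1), (12, 25, -1), (14, 19, 1), (21, 7, -1), (23, 1, 1)],
    [(6, 16, 1), (8, 10, -1), (12, 26, 1), (14, 20, -1), (21, 4, -1), (22, 1, 1)],
    [(1, 2, -1), (4, 5, -1), (7, 8, -1), (15, 12, 1), (16, 13, 1), (17, 14, 1)],
    [(0, 12, -1), (1, 9, 1), (16, 24, -1), (17, 21, 1), (19, 8, -1), (20, 5, 1)],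
    [(3, 12, 1), (4, 9, -1), (16, 25, 1), (17, 22, -1), (18, 8, -1), (20, 2, 1)],
    [(6, 12, -1), (7, 9, 1), (16, 26, -1), (17, 23, 1), (18, 5, -1), (19, 2, 1)],
    [(1, 19, 1), (4, 18, -1), (9, 8, -1), (15, 6, 1), (23, 14, 1), (26, 13, -1)],
    [(0, 6, -1), (1, 7, -1), (2, 8, -1), (20, 18, 1), (23, 21, 1), (26, 24, 1)],
    [(3, 6, 1), (4, 7, 1), (5, 8, 1), (20, 19, -1), (23, 22, -1), (26, 25, -1)],
    [(1, 20, 1), (7, 18, -1), (9, 5, 1), (15, 3, -1), (22, 14, -1), (25, 13, 1)],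
    [(0, 3, 1), (1, 4, 1), (2, 5, 1), (19, 18, -1), (22, 21, -1), (25, 24, -1)],
    [(4, 20, 1), (7, 19, -1), (9, 2, -1), (15, 0, 1), (21, 14, 1), (24, 13, -1)],
    [(0, 15, 1), (2, 9, -1), (13, 24, -1), (14, 21, 1), (19, 7, -1), (20, 4, 1)],
    [(3, 0, 1), (4, 1, 1), (5, 2, 1), (18, 19, -1), (21, 22, -1), (24, 25, -1)],
    [(3, 15, -1), (5, 9, 1), (13, 25, 1), (14, 22, -1), (18, 7, -1), (20, 1, 1)],
    [(6, 3, 1), (7, 4, 1), (8, 5, 1), (19, 20, -1), (22, 23, -1), (25, 26, -1)],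
    [(6, 0, -1), (7, 1, -1), (8, 2, -1), (18, 20, 1), (21, 23, 1), (24, 26, 1)],
    [(6, 15, 1), (8, 9, -1), (13, 26, -1), (14, 23, 1), (18, 4, -1), (19, 1, 1)],
    [(2, 19, 1), (5, 18, -1), (9, 7, 1), (12, 6, -1), (23, 17, 1), (26, 16, -1)],
    [(2, 20, 1), (8, 18, -1), (9, 4, -1), (12, 3, 1), (22, 17, -1), (25, 16, 1)],
    [(5, 20, 1), (8, 19, -1), (9, 1, 1), (12, 0, -1), (21, 17, 1), (24, 16, -1)],
    [(2, 1, -1), (5, 4, -1), (8, 7, -1), (12, 15, 1), (13, 16, 1), (14, 17, 1)],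
    [(1, 22, 1), (4, 21, -1), (10, 8, -1), (16, 6, 1), (20, 14, -1), (26, 12, 1)],
    [(1, 23, 1), (7, 21, -1), (10, 5, 1), (16, 3, -1), (19, 14, 1), (25, 12, -1)],
    [(4, 23, 1), (7, 22, -1), (10, 2, -1), (16, 0, 1), (18, 14, -1), (24, 12, 1)],
    [(10, 9, -1), (13, 12, -1), (16, 15, -1), (18, 21, 1), (19, 22, 1), (20, 23, 1)],
    [(1, 17, -1), (2, 14, 1), (9, 21, -1), (10, 18, 1), (25, 6, -1), (26, 3, 1)],
    [(4, 17, -1), (5, 14, 1), (9, 22, -1), (10, 19, 1), (24, 6, 1), (26, 0, -1)],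
    [(2, 22, 1), (5, 21, -1), (10, 7, 1), (13, 6, -1), (20, 17, -1), (26, 15, 1)],
    [(7, 17, -1), (8, 14, 1), (9, 23, -1), (10, 20, 1), (24, 3, -1), (25, 0, 1)],
    [(2, 23, 1), (8, 21, -1), (10, 4, -1), (13, 3, 1), (19, 17, 1), (25, 15, -1)],
    [(5, 23, 1), (8, 22, -1), (10, 1, 1), (13, 0, -1), (18, 17, -1), (24, 15, 1)],
    [(0, 2, 1), (3, 5, 1), (6, 8, 1), (15, 9, -1), (16, 10, -1), (17, 11, -1)],
    [(0, 19, -1), (3, 18, 1), (12, 8, -1), (15, 7, 1), (23, 11, -1), (26, 10, 1)],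
    [(0, 20, -1), (6, 18, 1), (12, 5, 1), (15, 4, -1), (22, 11, 1), (25, 10, -1)],
    [(3, 20, -1), (6, 19, 1), (12, 2, -1), (15, 1, 1), (21, 11, -1), (24, 10, 1)],
    [(0, 1, 1), (3, 4, 1), (6, 7, 1), (12, 9, -1), (13, 10, -1), (14, 11, -1)],
    [(0, 14, -1), (1, 11, 1), (15, 21, -1), (16, 18, 1), (25, 8, -1), (26, 5, 1)],
    [(3, 14, -1), (4, 11, 1), (15, 22, -1), (16, 19, 1), (24, 8, 1), (26, 2, -1)],
    [(0, 22, -1), (3, 21, 1), (13, 8, -1), (16, 7, 1), (20, 11, 1), (26, 9, -1)],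
    [(6, 14, -1), (7, 11, 1), (15, 23, -1), (16, 20, 1), (24, 5, -1), (25, 2, 1)],
    [(0, 23, -1), (6, 21, 1), (13, 5, 1), (16, 4, -1), (19, 11, -1), (25, 9, 1)],
    [(3, 23, -1), (6, 22, 1), (13, 2, -1), (16, 1, 1), (18, 11, 1), (24, 9, -1)],
    [(9, 11, 1), (12, 14, 1), (15, 17, 1), (24, 18, -1), (25, 19, -1), (26, 20, -1)],
    [(0, 17, 1), (2, 11, -1), (12, 21, -1), (13, 18, 1), (25, 7, -1), (26, 4, 1)],
    [(3, 17, 1), (5, 11, -1), (12, 22, -1), (13, 19, 1), (24, 7, 1), (26, 1, -1)],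
    [(6, 17, 1), (8, 11, -1), (12, 23, -1), (13, 20, 1), (24, 4, -1), (25, 1, 1)],
    [(10, 11, 1), (13, 14, 1), (16, 17, 1), (24, 21, -1), (25, 22, -1), (26, 23, -1)]] : List Sp).getD r []

/-- the weights: the action of the fundamental coroot `i` on the coordinate `a` -/
def wt (i : Fin 6) (a : Fin 27) : ℤ :=
  (([[1, 0, -1, 1, 0, -1, 1, 0, -1, -1, -1, -1, 0, 0, 0, 1, 1, 1, 0, 0, 0, 0, 0, 0, 0, 0, 0],
    [0, 1, 0, 0, 1, 0, -1, 0, -1, 0, 1, 0, -1, 0, -1, 0, 1, 0, 0, 0, 1, -1, -1, 0, 0, 0, 1],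
    [0, 0, 1, 0, 0, 1, -1, -1, 0, 1, 0, 0, 1, 0, 0, 0, -1, -1, -1, -1, 0, 0, 0, 1, 0, 0, 1],
    [0, 0, 0, -1, -1, -1, 1, 1, 1, 0, 0, 0, 0, 0, 0, 0, 0, 0, 0, 1, -1, 0, 1, -1, 0, 1, -1],
    [-1, -1, -1, 1, 1, 1, 0, 0, 0, 0, 0, 0, 0, 0, 0, 0, 0, 0, 1, -1, 0, 1, -1, 0, 1, -1, 0],
    [1, 0, 1, 0, -1, 0, 0, -1, 0, -1, 0, 0, 0, 1, 1, -1, 0, 0, 0, 1, 1, -1, 0, 0, -1, 0, 0]] : List (List ℤ)).getD i.val []).getD a.val 0

/-- six coordinates whose weights form a basis of the weight lattice -/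
def six : Fin 6 → Fin 27 := ![11, 13, 14, 17, 23, 24]

/-- the inverse of the matrix of weights at `six` -/
def invW : Fin 6 → Fin 6 → ℤ :=
  ![![-1, 0, 0, 0, 0, 0],
    ![0, 1, -1, 0, 0, 0],
    ![-1, 0, 0, -1, 0, 0],
    ![-1, 0, 0, -1, -1, 0],
    ![0, 1, 0, 0, 0, 1],
    ![0, 1, 0, 0, 0, 0]]

/-- propagation from `six` along the monomials -/
def propagate : List (Fin 27 × Fin 27 × Fin 27) :=
  [(9, 13, 17), (16, 9, 14), (12, 11, 16), (15, 11, 13), (19, 23, 24), (0, 11, 24), (1, 14, 24), (2, 17, 24), (3, 9, 19), (25, 3, 11), (4, 12, 19), (22, 4, 13), (5, 15, 19), (7, 13, 23), (26, 7, 14), (8, 16, 23), (6, 1, 5), (10, 12, 17), (18, 22, 26), (21, 19, 26), (20, 21, 25)]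

/-- the order in which coordinate lines get fixed -/
def order : List (Fin 27) :=
  [0, 1, 2, 19, 22, 25, 6, 7, 8, 9, 10, 11, 12, 13, 14, 5, 18, 20, 16, 24, 26, 3, 4, 15, 17, 21, 23]

/-- certificate for fixing one more coordinate line `l`: a support bound for its image, paths of
root elements moving each coordinate outside the fixed lines to `l`, and the root elements clearing
the coordinates adjacent to `l` -/
structure Step where
  l : Fin 27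
  supp : List (Fin 27)
  paths : List (Fin 27 × List (ℕ × Fin 27))
  kills : List (ℕ × Fin 27)

/-- the certificates -/
def steps : List Step :=
  [⟨0, [0, 1, 2, 3, 4, 5, 6, 7, 8, 9, 10, 11, 12, 13, 14, 15, 16, 17, 18, 19, 20, 21, 22, 23, 24, 25, 26],
      [(0, []), (1, [(60, 0)]), (2, [(56, 0)]), (3, [(34, 0)]), (4, [(68, 26), (20, 0)]), (5, [(65, 13), (16, 0)]), (6, [(31, 0)]), (7, [(68, 25), (18, 0)]), (8, [(63, 13), (16, 0)]), (9, [(65, 25), (18, 0)]), (10, [(60, 13), (16, 0)]), (11, [(68, 2), (56, 0)]), (12, [(27, 0)]), (13, [(16, 0)]), (14, [(61, 0)]), (15, [(36, 0)]), (16, [(23, 0)]), (17, [(68, 0)]), (18, [(68, 13), (16, 0)]), (19, [(57, 0)]), (20, [(58, 0)]), (21, [(68, 12), (27, 0)]), (22, [(63, 0)]), (23, [(65, 0)]), (24, [(36, 13), (16, 0)]), (25, [(18, 0)]), (26, [(20, 0)])],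
      [(11, 1), (15, 2), (37, 3), (40, 6), (44, 12), (55, 13), (10, 14), (35, 15), (48, 16), (3, 17), (14, 19), (13, 20), (8, 22), (6, 23), (53, 25), (51, 26)]⟩,
    ⟨1, [0, 1, 2, 3, 6, 12, 13, 14, 15, 16, 17, 19, 20, 22, 23, 25, 26],
      [(1, []), (2, [(26, 1)]), (3, [(50, 26), (2, 1)]), (6, [(50, 25), (1, 1)]), (12, [(47, 25), (1, 1)]), (13, [(33, 25), (1, 1)]), (14, [(50, 2), (26, 1)]), (15, [(12, 1)]), (16, [(5, 1)]), (17, [(50, 1)]), (19, [(30, 1)]), (20, [(33, 1)]), (22, [(46, 1)]), (23, [(47, 1)]), (25, [(1, 1)]), (26, [(2, 1)])],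
      [(60, 0), (45, 2), (59, 15), (66, 16), (21, 17), (41, 19), (38, 20), (25, 22), (24, 23), (70, 25), (69, 26)]⟩,
    ⟨2, [0, 1, 2, 15, 16, 17, 19, 20, 22, 23, 25, 26],
      [(2, []), (15, [(54, 25), (7, 2)]), (16, [(43, 25), (7, 2)]), (17, [(54, 19), (42, 2)]), (19, [(42, 2)]), (20, [(43, 2)]), (22, [(52, 2)]), (23, [(54, 2)]), (25, [(7, 2)]), (26, [(9, 2)])],
      [(56, 0), (26, 1), (29, 19), (28, 20), (19, 22), (17, 23), (64, 25), (62, 26)]⟩,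
    ⟨19, [0, 1, 2, 19, 20, 22, 23, 25, 26],
      [(19, []), (20, [(39, 19)]), (22, [(49, 19)]), (23, [(49, 20), (39, 19)]), (25, [(4, 19)]), (26, [(39, 25), (4, 19)])],
      [(57, 0), (30, 1), (42, 2), (32, 20), (22, 22), (67, 25)]⟩,
    ⟨22, [0, 1, 2, 19, 22, 25],
      [(22, []), (25, [(0, 22)])],
      [(63, 0), (46, 1), (52, 2), (49, 19), (71, 25)]⟩,
    ⟨25, [0, 1, 2, 19, 22, 25],
      [(25, [])],
      [(18, 0), (1, 1), (7, 2), (4, 19), (0, 22)]⟩,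
    ⟨6, [0, 1, 2, 6, 19, 22, 25],
      [(6, [])],
      [(31, 0), (12, 19), (5, 22), (50, 25)]⟩,
    ⟨7, [0, 7, 19, 22, 25],
      [(7, [])],
      [(36, 19), (23, 22), (68, 25)]⟩,
    ⟨8, [8, 19, 22, 25],
      [(8, [])],
      [(27, 19), (16, 22), (61, 25)]⟩,
    ⟨9, [9, 19, 22, 25],
      [(9, [])],
      [(20, 22), (65, 25)]⟩,
    ⟨10, [10, 22, 25],
      [(10, [])],
      [(58, 25)]⟩,
    ⟨11, [11, 25],
      [(11, [])],
      []⟩,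
    ⟨12, [12, 22, 25],
      [(12, [])],
      [(2, 22), (47, 25)]⟩,
    ⟨13, [13, 25],
      [(13, [])],
      [(33, 25)]⟩,
    ⟨14, [14],
      [(14, [])],
      []⟩,
    ⟨5, [2, 5, 8],
      [(5, [])],
      [(34, 2), (39, 8)]⟩,
    ⟨18, [8, 18],
      [(18, [])],
      [(43, 8)]⟩,
    ⟨20, [20],
      [(20, [])],
      []⟩,
    ⟨16, [16, 19],
      [(16, [])],
      [(9, 19)]⟩,
    ⟨24, [24],
      [(24, [])],
      []⟩,
    ⟨26, [26],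
      [(26, [])],
      []⟩,
    ⟨3, [3, 13],
      [(3, [])],
      [(54, 13)]⟩,
    ⟨4, [4],
      [(4, [])],
      []⟩,
    ⟨15, [15],
      [(15, [])],
      []⟩,
    ⟨17, [17],
      [(17, [])],
      []⟩,
    ⟨21, [21],
      [(21, [])],
      []⟩,
    ⟨23, [23],
      [(23, [])],
      []⟩]

end Cfsg.Agent.H99.E6
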