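import Cfsg.Agent.H99.E6.Data
import Cfsg.Agent.Chevalley.Model

/-! Sparse integer matrices and polynomials on 27 coordinates, with kernel-decidable identity
tests. -/

set_option autoImplicit false

namespace Cfsg.Agent.H99.E6

open Cfsg.Agent.Chevalley (SVec get ins nrm sameVec)
open Matrix

/-! ### evaluation of coded sums -/

variable {R : Type*} [CommRing R]

/-- the value of a coded sum -/
def evalV (φ : ℕ → R) (v : SVec) : R := (v.map fun p => (p.2 : R) * φ p.1).sum

theorem evalV_cons (φ : ℕ → R) (p : ℕ × ℤ) (v : SVec) :
    evalV φ (p :: v) = (p.2 : R) * φ p.1 + evalV φ v := by simp [evalV]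

theorem evalV_append (φ : ℕ → R) (v w : SVec) : evalV φ (v ++ w) = evalV φ v + evalV φ w := by
  simp [evalV]

theorem evalV_ins (φ : ℕ → R) (p : ℕ × ℤ) :
    ∀ v : SVec, evalV φ (ins p v) = (p.2 : R) * φ p.1 + evalV φ v
  | [] => by
    unfold ins
    by_cases h : p.2 = 0 <;> simp [h, evalV]
  | q :: v => by
    unfold ins
    by_cases h1 : p.1 < q.1
    · by_cases h : p.2 = 0 <;> simp [h1, h, evalV]
    · by_cases h2 : p.1 = q.1
      · by_cases h : p.2 + q.2 = 0
        · simp only [h1, h2, h, if_true, if_false, lt_irrefl, evalV_cons]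
          rw [← add_assoc, ← add_mul, ← Int.cast_add, h, Int.cast_zero, zero_mul, zero_add]
        · simp only [h1, h2, h, if_true, if_false, lt_irrefl, evalV_cons, Int.cast_add]
          ring
      · simp only [h1, h2, if_false, evalV_cons, evalV_ins φ p v]
        ring

theorem evalV_nrm (φ : ℕ → R) : ∀ v : SVec, evalV φ (nrm v) = evalV φ v
  | [] => rfl
  | p :: v => by
    show evalV φ (ins p (nrm v)) = _
    rw [evalV_ins, evalV_nrm φ v, evalV_cons]

theorem evalV_eq_of_same (φ : ℕ → R) {v w : SVec} (h : sameVec v w = true) :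
    evalV φ v = evalV φ w := by
  unfold sameVec at h
  rw [← evalV_nrm φ v, ← evalV_nrm φ w, of_decide_eq_true h]

/-! ### matrices -/

/-- the matrix of a sparse list -/
def toM (L : Sp) : Matrix (Fin 27) (Fin 27) R :=
  (L.map fun e => Matrix.single e.1 e.2.1 (e.2.2 : R)).sum

@[simp] theorem toM_nil : (toM ([] : Sp) : Matrix (Fin 27) (Fin 27) R) = 0 := rfl

theorem toM_cons (e : Fin 27 × Fin 27 × ℤ) (L : Sp) :
    (toM (e :: L) : Matrix (Fin 27) (Fin 27) R) =
      Matrix.single e.1 e.2.1 (e.2.2 : R) + toM L := by simp [toM]

theorem toM_append (L M : Sp) :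
    (toM (L ++ M) : Matrix (Fin 27) (Fin 27) R) = toM L + toM M := by simp [toM]

/-- scalar multiple of a sparse matrix -/
def smulS (c : ℤ) (L : Sp) : Sp := L.map fun e => (e.1, e.2.1, c * e.2.2)

theorem toM_smulS (c : ℤ) : ∀ L : Sp,
    (toM (smulS c L) : Matrix (Fin 27) (Fin 27) R) = (c : R) • toM L
  | [] => by simp [smulS]
  | e :: L => by
    rw [show smulS c (e :: L) = (e.1, e.2.1, c * e.2.2) :: smulS c L from rfl, toM_cons, toM_cons,
      toM_smulS c L, smul_add, Matrix.smul_single, Int.cast_mul, smul_eq_mul]

/-- product of sparse matrices -/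
def mulS (L M : Sp) : Sp :=
  L.flatMap fun e => (M.filter fun f => f.1 = e.2.1).map fun f => (e.1, f.2.1, e.2.2 * f.2.2)

theorem toM_row (e : Fin 27 × Fin 27 × ℤ) : ∀ M : Sp,
    (toM ((M.filter fun f => f.1 = e.2.1).map fun f => (e.1, f.2.1, e.2.2 * f.2.2)) :
      Matrix (Fin 27) (Fin 27) R) = Matrix.single e.1 e.2.1 (e.2.2 : R) * toM M
  | [] => by simp
  | f :: M => by
    rw [toM_cons, Matrix.mul_add, ← toM_row e M]
    by_cases h : f.1 = e.2.1
    · rw [List.filter_cons_of_pos (by simpa using h), List.map_cons, toM_cons, h,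
        Matrix.single_mul_single_same, Int.cast_mul]
    · rw [List.filter_cons_of_neg (by simpa using h),
        Matrix.single_mul_single_of_ne (h := Ne.symm h), zero_add]

theorem toM_mulS : ∀ L M : Sp,
    (toM (mulS L M) : Matrix (Fin 27) (Fin 27) R) = toM L * toM M
  | [], M => by simp [mulS]
  | e :: L, M => by
    rw [show mulS (e :: L) M = ((M.filter fun f => f.1 = e.2.1).map fun f =>
      (e.1, f.2.1, e.2.2 * f.2.2)) ++ mulS L M from rfl, toM_append, toM_row, toM_mulS L M,
      toM_cons, Matrix.add_mul]

/-- positions coded as numbers -/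
def code (L : Sp) : SVec := L.map fun e => (27 * e.1.val + e.2.1.val, e.2.2)

theorem code_append (L M : Sp) : code (L ++ M) = code L ++ code M := by simp [code]

theorem entry_eq_evalV (a b : Fin 27) : ∀ L : Sp,
    (toM L : Matrix (Fin 27) (Fin 27) R) a b =
      evalV (fun n => if n = 27 * a.val + b.val then (1 : R) else 0) (code L)
  | [] => rfl
  | e :: L => by
    rw [toM_cons, Matrix.add_apply, entry_eq_evalV a b L,
      show code (e :: L) = (27 * e.1.val + e.2.1.val, e.2.2) :: code L from rfl, evalV_cons,
      Matrix.single_apply]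
    congr 1
    have : 27 * e.1.val + e.2.1.val = 27 * a.val + b.val ↔ e.1 = a ∧ e.2.1 = b := by
      simp only [Fin.ext_iff]; omega
    simp [this]

/-- equality test for sparse matrices -/
def sameM (L M : Sp) : Bool := sameVec (code L) (code M)

theorem toM_eq_of_same {L M : Sp} (h : sameM L M = true) :
    (toM L : Matrix (Fin 27) (Fin 27) R) = toM M := by
  ext a b
  rw [entry_eq_evalV, entry_eq_evalV, evalV_eq_of_same _ h]

/-- the value of a sparse matrix on a vector -/
def actS (L : Sp) (v : Fin 27 → R) (a : Fin 27) : R :=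
  ((L.filter fun e => e.1 = a).map fun e => (e.2.2 : R) * v e.2.1).sum

theorem toM_mulVec : ∀ (L : Sp) (v : Fin 27 → R) (a : Fin 27),
    ((toM L : Matrix (Fin 27) (Fin 27) R) *ᵥ v) a = actS L v a
  | [], v, a => by simp [actS]
  | e :: L, v, a => by
    rw [toM_cons, Matrix.add_mulVec, Pi.add_apply, toM_mulVec L v a]
    by_cases h : e.1 = a
    · subst h
      simp [actS, Matrix.mulVec, dotProduct, Matrix.single_apply]
    · simp [actS, h, Matrix.mulVec, dotProduct, Matrix.single_apply]

/-! ### cubic forms -/

/-- the value of a cubic form -/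
def evalC (L : Cub) (v : Fin 27 → R) : R :=
  (L.map fun m => (m.1 : R) * (v m.2.1 * v m.2.2.1 * v m.2.2.2)).sum

/-- a code of three variables, independent of their order -/
def key3 (a b c : ℕ) : ℕ :=
  729 * min a (min b c) + 27 * (a + b + c - min a (min b c) - max a (max b c)) + max a (max b c)

/-- the monomial coded by a number: degree in the parameter, then three variables -/
def monVal (t : R) (v : Fin 27 → R) (n : ℕ) : R :=
  t ^ (n / 19683) * (v ⟨n / 729 % 27, Nat.mod_lt _ (by norm_num)⟩ *
    v ⟨n / 27 % 27, Nat.mod_lt _ (by norm_num)⟩ * v ⟨n % 27, Nat.mod_lt _ (by norm_num)⟩)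

theorem monVal_key (t : R) (v : Fin 27 → R) (k : ℕ) (a b c : Fin 27) :
    monVal t v (19683 * k + key3 a b c) = t ^ k * (v a * v b * v c) := by
  have main : ∀ x y z : Fin 27,
      monVal t v (19683 * k + (729 * x.val + 27 * y.val + z.val)) = t ^ k * (v x * v y * v z) := by
    intro x y z
    have := x.isLt; have := y.isLt; have := z.isLt
    unfold monVal
    have e1 : (19683 * k + (729 * x.val + 27 * y.val + z.val)) / 19683 = k := by omega
    have e2 : (19683 * k + (729 * x.val + 27 * y.val + z.val)) / 729 % 27 = x.val := by omega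
    have e3 : (19683 * k + (729 * x.val + 27 * y.val + z.val)) / 27 % 27 = y.val := by omega
    have e4 : (19683 * k + (729 * x.val + 27 * y.val + z.val)) % 27 = z.val := by omega
    simp only [e1, e2, e3, e4]
  unfold key3
  rcases le_total a.val b.val with h1 | h1 <;> rcases le_total b.val c.val with h2 | h2 <;>
    rcases le_total a.val c.val with h3 | h3
  all_goals first
    | (rw [show min a.val (min b.val c.val) = a.val by omega,
        show max a.val (max b.val c.val) = c.val by omega,
        show a.val + b.val + c.val - a.val - c.val = b.val by omega, main])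
    | (rw [show min a.val (min b.val c.val) = a.val by omega,
        show max a.val (max b.val c.val) = b.val by omega,
        show a.val + b.val + c.val - a.val - b.val = c.val by omega, main]; ring)
    | (rw [show min a.val (min b.val c.val) = b.val by omega,
        show max a.val (max b.val c.val) = c.val by omega,
        show a.val + b.val + c.val - b.val - c.val = a.val by omega, main]; ring)
    | (rw [show min a.val (min b.val c.val) = b.val by omega,
        show max a.val (max b.val c.val) = a.val by omega,
        show a.val + b.val + c.val - b.val - a.val = c.val by omega, main]; ring)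
    | (rw [show min a.val (min b.val c.val) = c.val by omega,
        show max a.val (max b.val c.val) = b.val by omega,
        show a.val + b.val + c.val - c.val - b.val = a.val by omega, main]; ring)
    | (rw [show min a.val (min b.val c.val) = c.val by omega,
        show max a.val (max b.val c.val) = a.val by omega,
        show a.val + b.val + c.val - c.val - a.val = b.val by omega, main]; ring)

/-- a cubic form, coded in degree 0 -/
def codeC (L : Cub) : SVec := L.map fun m => (19683 * 0 + key3 m.2.1 m.2.2.1 m.2.2.2, m.1)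

theorem evalV_codeC (t : R) (v : Fin 27 → R) : ∀ L : Cub,
    evalV (monVal t v) (codeC L) = evalC L v
  | [] => rfl
  | m :: L => by
    rw [show codeC (m :: L) = (19683 * 0 + key3 m.2.1 m.2.2.1 m.2.2.2, m.1) :: codeC L from rfl,
      evalV_cons, monVal_key, evalV_codeC t v L]
    simp [evalC]

/-- the summands of the coordinate `a` of `(1 + t M) v` -/
def lineS (M : Sp) (a : Fin 27) : List (ℕ × Fin 27 × ℤ) :=
  (0, a, 1) :: (M.filter fun e => e.1 = a).map fun e => (1, e.2.1, e.2.2)

theorem sum_lineS (M : Sp) (a : Fin 27) (t : R) (v : Fin 27 → R) :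
    ((lineS M a).map fun s => (s.2.2 : R) * (t ^ s.1 * v s.2.1)).sum = v a + t * actS M v a := by
  simp only [lineS, List.map_cons, List.sum_cons, List.map_map, pow_zero, one_mul, Int.cast_one]
  congr 1
  rw [actS, ← List.sum_map_mul_left]
  refine congrArg List.sum (List.map_congr_left fun e _ => ?_)
  simp only [Function.comp_apply, pow_one]
  ring

/-- substitution of `(1 + t M) v` in a cubic form, coded -/
def substC (L : Cub) (M : Sp) : SVec :=
  L.flatMap fun m => (lineS M m.2.1).flatMap fun x => (lineS M m.2.2.1).flatMap fun y =>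
    (lineS M m.2.2.2).map fun z =>
      (19683 * (x.1 + y.1 + z.1) + key3 x.2.1 y.2.1 z.2.1, m.1 * x.2.2 * y.2.2 * z.2.2)

theorem evalV_flatMap {α : Type*} (φ : ℕ → R) (f : α → SVec) : ∀ L : List α,
    evalV φ (L.flatMap f) = (L.map fun x => evalV φ (f x)).sum
  | [] => rfl
  | x :: L => by rw [List.flatMap_cons, evalV_append, evalV_flatMap φ f L, List.map_cons, List.sum_cons]

theorem sum_three {α : Type*} (c : R) (f : α → R) (K L M : List α) :
    (K.map fun x => (L.map fun y => (M.map fun z => c * (f x * (f y * f z))).sum).sum).sum =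
      c * ((K.map f).sum * ((L.map f).sum * (M.map f).sum)) := by
  simp only [List.sum_map_mul_left, List.sum_map_mul_right]

theorem evalV_substC (L : Cub) (M : Sp) (t : R) (v : Fin 27 → R) :
    evalV (monVal t v) (substC L M) = evalC L (fun a => v a + t * actS M v a) := by
  rw [substC, evalV_flatMap, evalC]
  refine congrArg List.sum (List.map_congr_left fun m _ => ?_)
  simp only [← sum_lineS, evalV_flatMap]
  rw [mul_assoc (List.sum _), ← sum_three]
  refine congrArg List.sum (List.map_congr_left fun x _ => ?_)
  refine congrArg List.sum (List.map_congr_left fun y _ => ?_)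
  simp only [evalV, List.map_map]
  refine congrArg List.sum (List.map_congr_left fun z _ => ?_)
  simp only [Function.comp_apply, monVal_key, Int.cast_mul]
  ring

end Cfsg.Agent.H99.E6
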