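import Cfsg.Agent.H99.E6.Torus

/-! The stabiliser of the cubic form is generated by the root elements.  Coordinate lines are fixed
one after the other: the image of the next basis vector is confined by the invariant forms, moved to
have a nonzero coordinate at that place, cleared at the adjacent coordinates by root elements fixing
the earlier lines, and then forced onto the line by the vanishing of the derivative. -/

set_option autoImplicit false
set_option maxHeartbeats 1000000

namespace Cfsg.Agent.H99.E6

open Matrix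

variable {F : Type*} [Field F]

/-- coordinate vectors -/
def e (a : Fin 27) : Fin 27 → F := Pi.single a 1

/-- the linear form `tri (e a) (e b) ·` -/
def thd (a b : Fin 27) : List (ℤ × Fin 27) :=
  mons.flatMap fun m =>
    (if m.2.1 = a ∧ m.2.2.1 = b then [(m.1, m.2.2.2)] else []) ++
    (if m.2.1 = b ∧ m.2.2.1 = a then [(m.1, m.2.2.2)] else []) ++
    (if m.2.1 = a ∧ m.2.2.2 = b then [(m.1, m.2.2.1)] else []) ++
    (if m.2.1 = b ∧ m.2.2.2 = a then [(m.1, m.2.2.1)] else []) ++
    (if m.2.2.1 = a ∧ m.2.2.2 = b then [(m.1, m.2.1)] else []) ++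
    (if m.2.2.1 = b ∧ m.2.2.2 = a then [(m.1, m.2.1)] else [])

/-- the quadratic form `P · (e z)` -/
def pairsP (z : Fin 27) : List (ℤ × Fin 27 × Fin 27) :=
  mons.flatMap fun m =>
    (if m.2.2.2 = z then [(m.1, m.2.1, m.2.2.1)] else []) ++
    (if m.2.2.1 = z then [(m.1, m.2.1, m.2.2.2)] else []) ++
    (if m.2.1 = z then [(m.1, m.2.2.1, m.2.2.2)] else [])

theorem sum_flat {α β : Type*} (f : α → List β) (φ : β → F) : ∀ L : List α,
    ((L.flatMap f).map φ).sum = (L.map fun m => ((f m).map φ).sum).sum
  | [] => rfl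
  | m :: L => by
    rw [List.flatMap_cons, List.map_append, List.sum_append, sum_flat f φ L, List.map_cons,
      List.sum_cons]

theorem tri_e (a b : Fin 27) (y : Fin 27 → F) :
    tri (e a) (e b) y = ((thd a b).map fun k => (k.1 : F) * y k.2).sum := by
  rw [tri_eq, thd, sum_flat]
  refine congrArg List.sum (List.map_congr_left fun m _ => ?_)
  have hs : ∀ (i j : Fin 27) (c : ℤ) (k : Fin 27) (p q : Prop) [Decidable p] [Decidable q],
      (((if p ∧ q then [(c, k)] else []) : List (ℤ × Fin 27)).map fun k => (k.1 : F) * y k.2).sum =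
        (if p then 1 else 0) * (if q then 1 else 0) * ((c : F) * y k) := by
    intro i j c k p q _ _
    by_cases hp : p <;> by_cases hq : q <;> simp [hp, hq]
  simp only [List.map_append, List.sum_append, hs a b, e, Pi.single_apply]
  ring

theorem P_e (z : Fin 27) (y : Fin 27 → F) :
    P y (e z) = ((pairsP z).map fun k => (k.1 : F) * (y k.2.1 * y k.2.2)).sum := by
  rw [P, pairsP, sum_flat]
  refine congrArg List.sum (List.map_congr_left fun m _ => ?_)
  have hs : ∀ (c : ℤ) (k k' : Fin 27) (p : Prop) [Decidable p],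
      (((if p then [(c, k, k')] else []) : List (ℤ × Fin 27 × Fin 27)).map
        fun k => (k.1 : F) * (y k.2.1 * y k.2.2)).sum =
        (if p then 1 else 0) * ((c : F) * (y k * y k')) := by
    intro c k k' p _
    by_cases hp : p <;> simp [hp]
  simp only [List.map_append, List.sum_append, hs, e, Pi.single_apply]
  ring

theorem tri_comm (x y z : Fin 27 → F) : tri x y z = tri x z y := by
  simp only [tri_eq]
  exact congrArg List.sum (List.map_congr_left fun m _ => by ring)

/-- a list with a single entry `(±1, k)` -/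
def unitAt (k : Fin 27) (L : List (ℤ × Fin 27)) : Bool :=
  decide (L = [(1, k)] ∨ L = [(-1, k)])

theorem unitAt_sum {k : Fin 27} {L : List (ℤ × Fin 27)} (h : unitAt k L = true) :
    ∃ c : F, c ≠ 0 ∧ ∀ y : Fin 27 → F, (L.map fun p => (p.1 : F) * y p.2).sum = c * y k := by
  simp only [unitAt, decide_eq_true_eq] at h
  rcases h with rfl | rfl
  · exact ⟨1, one_ne_zero, fun y => by simp⟩
  · exact ⟨-1, neg_ne_zero.2 one_ne_zero, fun y => by simp⟩

/-- `g` fixes the coordinate lines in `B` -/
def Fix (g : GL (Fin 27) F) (B : List (Fin 27)) : Prop :=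
  ∀ b ∈ B, ∃ c : F, c ≠ 0 ∧ act g (e b) = c • e b

/-- coordinate `m` vanishes on the image of `e l`, for a reason visible from the fixed lines -/
def excluded (B : List (Fin 27)) (l m : Fin 27) : Bool :=
  B.any fun a =>
    match thd a m with
    | [] => false
    | p :: _ =>
      unitAt m (thd a p.2) && (decide (thd a l = []) || (B.contains p.2 && decide (l ≠ m)))

theorem excluded_zero (hF : ∃ t : F, t ≠ 0 ∧ t ≠ 1) {g : GL (Fin 27) F} (hg : g ∈ Stab F)
    {B : List (Fin 27)} (hfix : Fix g B) {l m : Fin 27} (h : excluded B l m = true) :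
    act g (e l) m = 0 := by
  rw [excluded, List.any_eq_true] at h
  obtain ⟨a, ha, h⟩ := h
  obtain ⟨c, hc, hca⟩ := hfix a ha
  generalize hL : thd a m = L at h
  match L, h with
  | p :: _, h =>
    simp only [Bool.and_eq_true, Bool.or_eq_true, decide_eq_true_eq, List.contains_iff_mem] at h
    obtain ⟨hu, h⟩ := h
    obtain ⟨k, hk, hk'⟩ := unitAt_sum (F := F) hu
    rcases h with h | ⟨hb, hlm⟩
    · have h0 : tri (act g (e a)) (act g (e l)) (e p.2) = 0 := by
        rw [show (e p.2 : Fin 27 → F) = act g (act g⁻¹ (e p.2)) by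
          rw [← act_mul, mul_inv_cancel, act_one], tri_act hF hg, tri_e, h]
        simp
      rw [hca, tri_smul_left, tri_comm, tri_e, hk'] at h0
      simpa [hc, hk] using h0
    · obtain ⟨c', hc', hcb⟩ := hfix p.2 hb
      have h0 : tri (act g (e a)) (act g (e p.2)) (act g (e l)) = 0 := by
        rw [tri_act hF hg, tri_e, hk']
        simp [e, Ne.symm hlm]
      rw [hca, hcb, tri_smul_left, tri_smul_mid, tri_e, hk'] at h0
      simpa [hc, hc', hk] using h0

/-- a vector supported in the fixed lines comes from one supported there -/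
theorem pre_supp {g : GL (Fin 27) F} {B : List (Fin 27)} (hfix : Fix g B) (v : Fin 27 → F)
    (h : ∀ m, m ∉ B → act g v m = 0) : ∀ m, m ∉ B → v m = 0 := by
  classical
  have hdef : ∀ b, ∃ c : F, b ∈ B → c ≠ 0 ∧ act g (e b) = c • e b := fun b => by
    by_cases hb : b ∈ B
    · obtain ⟨c, hc⟩ := hfix b hb; exact ⟨c, fun _ => hc⟩
    · exact ⟨0, fun h => absurd h hb⟩
  choose c hc using hdef
  let v' : Fin 27 → F := ∑ b ∈ B.toFinset, (act g v b / c b) • e b
  have he : act g v' = act g v := by
    simp only [v', act, Matrix.mulVec_sum, Matrix.mulVec_smul]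
    funext m
    rw [Finset.sum_apply]
    have : ∀ b ∈ B.toFinset, ((act g v b / c b) • ((g : Matrix (Fin 27) (Fin 27) F) *ᵥ e b)) m =
        if b = m then act g v m else 0 := by
      intro b hb
      obtain ⟨hcb, hgb⟩ := hc b (List.mem_toFinset.1 hb)
      simp only [act] at hgb
      rw [hgb, Pi.smul_apply, Pi.smul_apply, smul_eq_mul, smul_eq_mul, e, Pi.single_apply]
      by_cases hbm : b = m
      · subst hbm; simp [div_mul_cancel₀ _ hcb]
      · simp [hbm, Ne.symm hbm]
    rw [Finset.sum_congr rfl this, Finset.sum_ite_eq']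
    by_cases hm : m ∈ B
    · simp [hm, act]
    · simp [hm]; exact (h m hm).symm
  have : v' = v := by rw [← act_inv_cancel g v', he, act_inv_cancel]
  intro m hm
  rw [← this]
  simp only [v', Finset.sum_apply]
  refine Finset.sum_eq_zero fun b hb => ?_
  have : b ≠ m := fun e => hm (e ▸ List.mem_toFinset.1 hb)
  simp [e, this.symm]

/-- a root fixes the basis vectors in `B` -/
def rootFixes (r : ℕ) (B : List (Fin 27)) : Bool :=
  B.all fun b => (rootM r).all fun x => decide (x.2.1 ≠ b)

theorem act_X_e {r : Fin 72} {B : List (Fin 27)} (h : rootFixes r.val B = true) (t : F) {b : Fin 27}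
    (hb : b ∈ B) : act (X r t) (e b) = e b := by
  rw [act_X]
  funext a
  have : actS (rootM r.val) (e b : Fin 27 → F) a = 0 := by
    refine List.sum_eq_zero fun x hx => ?_
    obtain ⟨y, hy, rfl⟩ := List.mem_map.1 hx
    have h1 := List.all_eq_true.1 (List.all_eq_true.1 h b hb) y (List.mem_filter.1 hy).1
    simp only [decide_eq_true_eq] at h1
    simp [e, h1]
  rw [this, mul_zero, add_zero]

/-- the row of a root vector at `a` -/
def rowM (r : ℕ) (a : Fin 27) : List (ℤ × Fin 27) :=
  ((rootM r).filter fun x => x.1 = a).map fun x => (x.2.2, x.2.1)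

theorem actS_row (r : ℕ) (v : Fin 27 → F) (a : Fin 27) :
    actS (rootM r) v a = ((rowM r a).map fun p => (p.1 : F) * v p.2).sum := by
  simp [actS, rowM, List.map_map, Function.comp_def]

/-- adjacency: no monomial contains both coordinates -/
def adjB (l x : Fin 27) : Bool := decide (x ≠ l) && decide (thd l x = [])

/-- validity of a path -/
def pathOK (B : List (Fin 27)) (l : Fin 27) : Fin 27 → List (ℕ × Fin 27) → Bool
  | m, [] => decide (m = l)
  | m, p :: L => decide (p.1 < 72) && rootFixes p.1 B && unitAt m (rowM p.1 p.2) && pathOK B l p.2 L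

/-- validity of a clearing root -/
def killOK (B : List (Fin 27)) (l : Fin 27) (p : ℕ × Fin 27) : Bool :=
  decide (p.1 < 72) && rootFixes p.1 B && unitAt l (rowM p.1 p.2) && adjB l p.2 &&
    (rootM p.1).all fun x => decide (x.1 = p.2) || (!adjB l x.1 && decide (x.1 ≠ l))

/-- one of the two places of a pair holds a coordinate known to be zero -/
def zeroPair (supp : List (Fin 27)) (l : Fin 27) (q : ℤ × Fin 27 × Fin 27) : Bool :=
  adjB l q.2.1 || !supp.contains q.2.1 || adjB l q.2.2 || !supp.contains q.2.2

/-- the derivative in a coordinate reduces to the product of the coordinates `l` and `z` -/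
def onePair (known : ℤ × Fin 27 × Fin 27 → Bool) (l z z' : Fin 27) : Bool :=
  decide ((pairsP z').filter (fun q => !known q) = [(1, l, z)] ∨
    (pairsP z').filter (fun q => !known q) = [(-1, l, z)] ∨
    (pairsP z').filter (fun q => !known q) = [(1, z, l)] ∨
    (pairsP z').filter (fun q => !known q) = [(-1, z, l)])

theorem onePair_sum {known : ℤ × Fin 27 × Fin 27 → Bool} {l z z' : Fin 27}
    (h : onePair known l z z' = true) :
    ∃ c : F, c ≠ 0 ∧ ∀ y : Fin 27 → F,
      (∀ q ∈ pairsP z', known q = true → y q.2.1 * y q.2.2 = 0) → P y (e z') = c * (y l * y z) := by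
  have key : ∀ y : Fin 27 → F, (∀ q ∈ pairsP z', known q = true → y q.2.1 * y q.2.2 = 0) →
      P y (e z') = (((pairsP z').filter fun q => !known q).map
        fun k => (k.1 : F) * (y k.2.1 * y k.2.2)).sum := by
    intro y hy
    rw [P_e]
    generalize pairsP z' = L at hy
    induction L with
    | nil => rfl
    | cons q L ih =>
      rw [List.map_cons, List.sum_cons, ih fun q hq => hy q (List.mem_cons_of_mem _ hq)]
      by_cases hk : known q = true
      · rw [List.filter_cons_of_neg (by simp [hk]), hy q List.mem_cons_self hk, mul_zero, zero_add]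
      · rw [List.filter_cons_of_pos (by simpa using hk), List.map_cons, List.sum_cons]
  simp only [onePair, decide_eq_true_eq] at h
  rcases h with h | h | h | h
  · exact ⟨1, one_ne_zero, fun y hy => by rw [key y hy, h]; simp⟩
  · exact ⟨-1, neg_ne_zero.2 one_ne_zero, fun y hy => by rw [key y hy, h]; simp⟩
  · exact ⟨1, one_ne_zero, fun y hy => by rw [key y hy, h]; simp [mul_comm]⟩
  · exact ⟨-1, neg_ne_zero.2 one_ne_zero, fun y hy => by rw [key y hy, h]; simp [mul_comm]⟩

/-- coordinates excluded for a separate reason -/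
def extra (B : List (Fin 27)) (l : Fin 27) : List (Fin 27) :=
  if B = [0, 1, 2, 19] ∧ l = 22 then [20] else []

/-- validity of a step -/
def stepOK (B : List (Fin 27)) (st : Step) : Bool :=
  !B.contains st.l &&
  (List.finRange 27).all (fun m =>
    st.supp.contains m || excluded B st.l m || (extra B st.l).contains m) &&
  st.supp.all (fun m => B.contains m ||
    st.paths.any fun p => decide (p.1 = m) && pathOK B st.l m p.2) &&
  st.kills.all (killOK B st.l) &&
  st.supp.all (fun m => decide (m = st.l) ||
    if adjB st.l m then st.kills.any (fun p => decide (p.2 = m))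
    else match thd st.l m with
      | [] => false
      | p :: _ => onePair (zeroPair st.supp st.l) st.l m p.2)

/-- the steps with the lines fixed before each of them -/
def stepList : List (List (Fin 27) × Step) :=
  (List.range steps.length).map fun k =>
    ((steps.take k).map Step.l, steps.getD k ⟨0, [], [], []⟩)

theorem steps_ok : stepList.all (fun x => stepOK x.1 x.2) = true := by decide +kernel

/-- the special support fact -/
def specialOK : Bool :=
  ([22, 25] : List (Fin 27)).all (fun l => (List.finRange 27).all fun m =>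
    ([0, 1, 2, 19, 20, 22, 25] : List (Fin 27)).contains m || excluded [0, 1, 2, 19] l m) &&
  ([22, 25] : List (Fin 27)).all (fun z => match thd 20 z with
    | [] => false
    | p :: _ => onePair (fun q =>
        !([0, 1, 2, 19, 20, 22, 25] : List (Fin 27)).contains q.2.1 ||
        !([0, 1, 2, 19, 20, 22, 25] : List (Fin 27)).contains q.2.2) 20 z p.2) &&
  decide (thd 22 25 = [])

theorem special_ok : specialOK = true := by decide +kernel

section main

variable (hF : ∃ t : F, t ≠ 0 ∧ t ≠ 1)
include hF

/-- whiteness of the image of a basis vector -/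
theorem white {g : GL (Fin 27) F} (hg : g ∈ Stab F) (l z : Fin 27) :
    P (act g (e l)) (e z) = 0 := by
  have h0 : ∀ v : Fin 27 → F, P (e l) v = 0 := by
    intro v
    refine List.sum_eq_zero fun x hx => ?_
    obtain ⟨m, hm, rfl⟩ := List.mem_map.1 hx
    have hd : ∀ m ∈ mons, m.2.1 ≠ m.2.2.1 ∧ m.2.1 ≠ m.2.2.2 ∧ m.2.2.1 ≠ m.2.2.2 := by decide +kernel
    obtain ⟨h1, h2, h3⟩ := hd m hm
    simp only [e, Pi.single_apply]
    split_ifs <;> simp_all
  rw [show (e z : Fin 27 → F) = act g (act g⁻¹ (e z)) by rw [← act_mul, mul_inv_cancel, act_one],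
    P_act hF hg, h0]

theorem special {g : GL (Fin 27) F} (hg : g ∈ Stab F) (hfix : Fix g [0, 1, 2, 19]) :
    act g (e 22) 20 = 0 := by
  have h := special_ok
  simp only [specialOK, Bool.and_eq_true, List.all_eq_true, Bool.or_eq_true, decide_eq_true_eq,
    List.contains_iff_mem] at h
  obtain ⟨⟨hsupp, hone⟩, hadj⟩ := h
  set S0 : List (Fin 27) := [0, 1, 2, 19, 20, 22, 25] with hS0
  have hs : ∀ l ∈ ([22, 25] : List (Fin 27)), ∀ m, m ∉ S0 → act g (e l) m = 0 := fun l hl m hm =>
    excluded_zero hF hg hfix ((hsupp l hl m (List.mem_finRange m)).resolve_left hm)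
  set y := act g (e 22) with hy
  set y' := act g (e 25) with hy'
  by_contra hne
  have key : ∀ z ∈ ([22, 25] : List (Fin 27)), y z = 0 ∧ y' z = 0 := by
    intro z hz
    have h1 := hone z hz
    generalize thd 20 z = L at h1
    match L, h1 with
    | p :: _, h1 =>
      obtain ⟨c, hc, hP⟩ := onePair_sum (F := F) h1
      have hP' : ∀ w : Fin 27 → F, (∀ m, m ∉ S0 → w m = 0) → P w (e p.2) = c * (w 20 * w z) := by
        intro w hw
        refine hP w fun q _ hq => ?_
        simp only [Bool.or_eq_true, Bool.not_eq_true', ← Bool.not_eq_true, List.contains_iff_mem] at hq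
        rcases hq with hq | hq <;> simp [hw _ hq]
      have e1 : c * (y 20 * y z) = 0 := by
        rw [← hP' y (hs 22 (by simp))]; exact white hF hg 22 p.2
      have hyz : y z = 0 := by simpa [hc, hne] using e1
      have e2 : c * ((y + y') 20 * (y + y') z) - c * (y 20 * y z) - c * (y' 20 * y' z) = 0 := by
        have hsum : ∀ m, m ∉ S0 → (y + y') m = 0 := fun m hm => by
          simp [Pi.add_apply, hy, hy', hs 22 (by simp) m hm, hs 25 (by simp) m hm]
        rw [← hP' y (hs 22 (by simp)), ← hP' y' (hs 25 (by simp)), ← hP' _ hsum]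
        show tri y y' (e p.2) = 0
        rw [show (e p.2 : Fin 27 → F) = act g (act g⁻¹ (e p.2)) by
          rw [← act_mul, mul_inv_cancel, act_one], hy, hy', tri_act hF hg, tri_e, hadj]
        simp
      refine ⟨hyz, ?_⟩
      simp only [Pi.add_apply, hyz, zero_add, mul_zero, sub_zero] at e2
      have : c * (y 20 * y' z) = 0 := by linear_combination e2
      simpa [hc, hne] using this
  have hw : ∀ m, m ∉ ([0, 1, 2, 19] : List (Fin 27)) →
      act g (y' 20 • e 22 - y 20 • e 25) m = 0 := by
    intro m hm
    have : act g (y' 20 • e 22 - y 20 • e 25) = y' 20 • y - y 20 • y' := by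
      simp [act, hy, hy', Matrix.mulVec_sub, Matrix.mulVec_smul]
    rw [this]
    by_cases h20 : m = 20
    · subst h20; simp [mul_comm]
    by_cases h22 : m = 22
    · subst h22; simp [key 22 (by simp)]
    by_cases h25 : m = 25
    · subst h25; simp [key 25 (by simp)]
    have hm' : m ∉ S0 := by simp [hS0] at hm ⊢; simp [hm, h20, h22, h25]
    simp [hy, hy', hs 22 (by simp) m hm', hs 25 (by simp) m hm']
  have := pre_supp hfix _ hw 25 (by decide)
  simp [e] at this
  exact hne this

/-- the image of the next basis vector is confined to the support of the step -/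
theorem supp_zero {g : GL (Fin 27) F} (hg : g ∈ Stab F) {B : List (Fin 27)} (hfix : Fix g B)
    {st : Step} (hok : stepOK B st = true) {m : Fin 27} (hm : m ∉ st.supp) :
    act g (e st.l) m = 0 := by
  simp only [stepOK, Bool.and_eq_true, List.all_eq_true, Bool.or_eq_true, List.contains_iff_mem] at hok
  rcases hok.1.1.1.2 m (List.mem_finRange m) with (h | h) | h
  · exact absurd h hm
  · exact excluded_zero hF hg hfix h
  · unfold extra at h
    split_ifs at h with hB
    · rw [List.mem_singleton.1 h, hB.2]
      exact special hF hg (hB.1 ▸ hfix)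
    · simp at h

omit hF in
theorem path_move {B : List (Fin 27)} {l : Fin 27} : ∀ (L : List (ℕ × Fin 27)) (m : Fin 27),
    pathOK B l m L = true → ∀ y : Fin 27 → F, y m ≠ 0 →
      ∃ k ∈ Elem F, (∀ b ∈ B, act k (e b) = e b) ∧ act k y l ≠ 0
  | [], m, h, y, hy => by
    simp only [pathOK, decide_eq_true_eq] at h
    exact ⟨1, one_mem _, fun b _ => act_one _, by rwa [act_one, ← h]⟩
  | p :: L, m, h, y, hy => by
    simp only [pathOK, Bool.and_eq_true, decide_eq_true_eq] at h
    obtain ⟨⟨⟨h1, h2⟩, h3⟩, h4⟩ := h
    obtain ⟨c, hc, hc'⟩ := unitAt_sum (F := F) h3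
    obtain ⟨t, ht⟩ : ∃ t : F, y p.2 + t * (c * y m) ≠ 0 := by
      by_cases h0 : y p.2 = 0
      · exact ⟨1, by simpa [h0] using mul_ne_zero hc hy⟩
      · exact ⟨0, by simpa using h0⟩
    obtain ⟨k, hk, hkfix, hkl⟩ := path_move L p.2 h4 (act (X ⟨p.1, h1⟩ t) y) (by
      rw [act_X]; simpa [actS_row, hc'] using ht)
    refine ⟨k * X ⟨p.1, h1⟩ t, mul_mem hk (X_mem_Elem _ _), fun b hb => ?_, by rwa [act_mul]⟩
    rw [act_mul, act_X_e (r := ⟨p.1, h1⟩) h2 t hb, hkfix b hb]

omit hF in
theorem kill_all {B : List (Fin 27)} {l : Fin 27} : ∀ K : List (ℕ × Fin 27),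
    (∀ p ∈ K, killOK B l p = true) → ∀ y : Fin 27 → F, y l ≠ 0 →
      ∃ k ∈ Elem F, (∀ b ∈ B, act k (e b) = e b) ∧ act k y l ≠ 0 ∧
        (∀ p ∈ K, act k y p.2 = 0) ∧ ∀ m, adjB l m = true → y m = 0 → act k y m = 0
  | [], _, y, hy => ⟨1, one_mem _, fun b _ => act_one _, by rwa [act_one], by simp,
      fun m _ h => by rwa [act_one]⟩
  | p :: K, h, y, hy => by
    have hp := h p List.mem_cons_self
    simp only [killOK, Bool.and_eq_true, decide_eq_true_eq, List.all_eq_true, Bool.or_eq_true,
      Bool.not_eq_true'] at hp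
    obtain ⟨⟨⟨⟨h1, h2⟩, h3⟩, h4⟩, h5⟩ := hp
    obtain ⟨c, hc, hc'⟩ := unitAt_sum (F := F) h3
    let t : F := -(y p.2) / (c * y l)
    have hz : ∀ a, a ≠ p.2 → (adjB l a = true ∨ a = l) → act (X ⟨p.1, h1⟩ t) y a = y a := by
      intro a ha hal
      rw [act_X]
      have : actS (rootM p.1) y a = 0 := by
        refine List.sum_eq_zero fun x hx => ?_
        obtain ⟨w, hw, rfl⟩ := List.mem_map.1 hx
        obtain ⟨hw1, hw2⟩ := List.mem_filter.1 hw
        simp only [decide_eq_true_eq] at hw2
        exfalso
        rcases h5 w hw1 with e' | ⟨e1, e2⟩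
        · exact ha (hw2 ▸ e')
        · rcases hal with hal | hal
          · rw [hw2, hal] at e1; simp at e1
          · exact e2 (hw2.trans hal)
      simp [this]
    have hkill : act (X ⟨p.1, h1⟩ t) y p.2 = 0 := by
      rw [act_X]
      simp only [actS_row, hc']
      simp only [t, div_mul_cancel₀ _ (mul_ne_zero hc hy)]
      ring
    have hlp : l ≠ p.2 := by
      simp [adjB] at h4
      exact Ne.symm h4.1
    obtain ⟨k, hk, hkfix, hkl, hkK, hkz⟩ := kill_all K (fun q hq => h q (List.mem_cons_of_mem _ hq))
      (act (X ⟨p.1, h1⟩ t) y) (by rw [hz l hlp (Or.inr rfl)]; exact hy)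
    refine ⟨k * X ⟨p.1, h1⟩ t, mul_mem hk (X_mem_Elem _ _), fun b hb => ?_, by rwa [act_mul], ?_, ?_⟩
    · rw [act_mul, act_X_e (r := ⟨p.1, h1⟩) h2 t hb, hkfix b hb]
    · intro q hq
      rw [act_mul]
      rcases List.mem_cons.1 hq with rfl | hq
      · exact hkz _ h4 hkill
      · exact hkK q hq
    · intro m hm hym
      rw [act_mul]
      refine hkz m hm ?_
      by_cases hmp : m = p.2
      · rw [hmp]; exact hkill
      · rw [hz m hmp (Or.inl hm), hym]

theorem one_step {g : GL (Fin 27) F} (hg : g ∈ Stab F) {B : List (Fin 27)} (hfix : Fix g B)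
    {st : Step} (hok : stepOK B st = true) :
    ∃ k ∈ Elem F, Fix (k * g) (B ++ [st.l]) := by
  have hok' := hok
  simp only [stepOK, Bool.and_eq_true, List.all_eq_true, Bool.or_eq_true, Bool.not_eq_true',
    List.any_eq_true, decide_eq_true_eq, List.contains_iff_mem] at hok'
  obtain ⟨⟨⟨⟨hlB, -⟩, hpath⟩, hkills⟩, hwhite⟩ := hok'
  have hlB' : st.l ∉ B := fun h => by simp [h] at hlB
  have mulFix : ∀ {k : GL (Fin 27) F}, (∀ b ∈ B, act k (e b) = e b) → Fix (k * g) B := by
    intro k hk b hb
    obtain ⟨c, hc, hcb⟩ := hfix b hb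
    refine ⟨c, hc, ?_⟩
    rw [act_mul, hcb, act, Matrix.mulVec_smul, ← act, hk b hb]
  obtain ⟨m, hmB, hm⟩ : ∃ m, m ∉ B ∧ act g (e st.l) m ≠ 0 := by
    by_contra hcon
    push Not at hcon
    have := pre_supp hfix _ hcon st.l hlB'
    simp [e] at this
  have hms : m ∈ st.supp := by
    by_contra h
    exact hm (supp_zero hF hg hfix hok h)
  obtain ⟨p, -, -, hp⟩ := (hpath m hms).resolve_left hmB
  obtain ⟨k₁, hk₁, hfix₁, hl₁⟩ := path_move p.2 m hp _ hm
  obtain ⟨k₂, hk₂, hfix₂, hl₂, hz, -⟩ := kill_all st.kills hkills _ hl₁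
  have hk : k₂ * k₁ ∈ Elem F := mul_mem hk₂ hk₁
  have hfix' : Fix (k₂ * k₁ * g) B :=
    mulFix fun b hb => by rw [act_mul, hfix₁ b hb, hfix₂ b hb]
  have hg' : k₂ * k₁ * g ∈ Stab F := mul_mem (Elem_le hk) hg
  set w := act (k₂ * k₁ * g) (e st.l) with hw
  have hwl : w st.l ≠ 0 := by rw [hw, act_mul, act_mul]; exact hl₂
  have houts : ∀ z, z ∉ st.supp → w z = 0 := fun z hz' => supp_zero hF hg' hfix' hok hz'
  have hzadj : ∀ z, adjB st.l z = true → w z = 0 := by
    intro z hz'
    by_cases hzs : z ∈ st.supp
    · have hne : z ≠ st.l := by simp [adjB] at hz'; exact hz'.1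
      have h := (hwhite z hzs).resolve_left hne
      rw [if_pos hz'] at h
      simp only [List.any_eq_true, decide_eq_true_eq] at h
      obtain ⟨q, hq, rfl⟩ := h
      rw [hw, act_mul, act_mul]; exact hz q hq
    · exact houts z hzs
  have hall : ∀ z, z ≠ st.l → w z = 0 := by
    intro z hne
    by_cases hzs : z ∈ st.supp
    · by_cases hadj : adjB st.l z = true
      · exact hzadj z hadj
      · have h := (hwhite z hzs).resolve_left hne
        rw [if_neg hadj] at h
        generalize thd st.l z = L at h
        match L, h with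
        | p :: _, h =>
          obtain ⟨c, hc, hP⟩ := onePair_sum (F := F) h
          have h0 : c * (w st.l * w z) = 0 := by
            rw [← hP w ?_]
            · exact white hF hg' st.l p.2
            · intro q _ hq
              simp only [zeroPair, Bool.or_eq_true, Bool.not_eq_true', ← Bool.not_eq_true,
                List.contains_iff_mem] at hq
              rcases hq with ((hq | hq) | hq) | hq
              · simp [hzadj _ hq]
              · simp [houts _ hq]
              · simp [hzadj _ hq]
              · simp [houts _ hq]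
          simpa [hc, hwl] using h0
    · exact houts z hzs
  refine ⟨k₂ * k₁, hk, fun b hb => ?_⟩
  rcases List.mem_append.1 hb with hb | hb
  · exact hfix' b hb
  · rw [List.mem_singleton.1 hb]
    refine ⟨w st.l, hwl, funext fun z => ?_⟩
    by_cases hz' : z = st.l
    · simp [hz', e, hw]
    · rw [← hw, hall z hz']; simp [e, hz']

theorem fix_all {g : GL (Fin 27) F} (hg : g ∈ Stab F) :
    ∃ k ∈ Elem F, Fix (k * g) (steps.map Step.l) := by
  suffices h : ∀ n, n ≤ steps.length → ∃ k ∈ Elem F, Fix (k * g) ((steps.take n).map Step.l) by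
    simpa using h steps.length le_rfl
  intro n
  induction n with
  | zero => exact fun _ => ⟨1, one_mem _, by simp [Fix]⟩
  | succ n ih =>
    intro hn
    obtain ⟨k, hk, hfix⟩ := ih (Nat.le_of_succ_le hn)
    have hok := List.all_eq_true.1 steps_ok ((steps.take n).map Step.l, steps.getD n ⟨0, [], [], []⟩)
      (List.mem_map.2 ⟨n, List.mem_range.2 hn, rfl⟩)
    obtain ⟨k', hk', hfix'⟩ := one_step hF (mul_mem (Elem_le hk) hg) hfix hok
    refine ⟨k' * k, mul_mem hk' hk, ?_⟩
    rw [mul_assoc]
    convert hfix' using 2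
    rw [List.take_succ_eq_append_getElem (Nat.lt_of_succ_le hn), List.map_append,
      List.getD_eq_getElem _ _ (Nat.lt_of_succ_le hn)]
    rfl

omit hF in
theorem steps_cover : ∀ a : Fin 27, a ∈ steps.map Step.l := by decide +kernel

omit hF in
theorem propagate_ok_bool :
    propagate.all (fun p => unitAt p.1 (thd p.2.1 p.2.2)) = true := by decide +kernel

omit hF in
theorem propagate_ok : ∀ p ∈ propagate, unitAt p.1 (thd p.2.1 p.2.2) = true :=
  List.all_eq_true.1 propagate_ok_bool

omit hF in
theorem propagate_total : ∀ a : Fin 27,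
    a ∈ (List.ofFn six).foldr (· :: ·) (propagate.map Prod.fst) := by decide +kernel

omit hF in
theorem propagate_order :
    (List.range propagate.length).all (fun k =>
      let q := propagate.getD k (0, 0, 0)
      let known := List.ofFn six ++ (propagate.take k).map Prod.fst
      known.contains q.2.1 && known.contains q.2.2) = true := by decide +kernel

/-- a diagonal stabilising element with ones at the six coordinates is trivial -/
theorem diag_trivial {g : GL (Fin 27) F} (hg : g ∈ Stab F) (d : Fin 27 → F)
    (hd : ∀ a, act g (e a) = d a • e a) (h6 : ∀ j, d (six j) = 1) : g = 1 := by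
  have key : ∀ n, n ≤ propagate.length →
      ∀ a ∈ List.ofFn six ++ (propagate.take n).map Prod.fst, d a = 1 := by
    intro n
    induction n with
    | zero =>
      intro _ a ha
      simp only [List.take_zero, List.map_nil, List.append_nil, List.mem_ofFn] at ha
      obtain ⟨j, rfl⟩ := ha
      exact h6 j
    | succ n ih =>
      intro hn a ha
      have ih := ih (Nat.le_of_succ_le hn)
      have hn' := Nat.lt_of_succ_le hn
      rw [List.take_succ_eq_append_getElem hn', List.map_append, ← List.append_assoc,
        List.mem_append] at ha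
      rcases ha with ha | ha
      · exact ih a ha
      · have hq := List.all_eq_true.1 propagate_order n (List.mem_range.2 hn')
        simp only [Bool.and_eq_true, List.contains_iff_mem, List.getD_eq_getElem _ _ hn'] at hq
        obtain ⟨c, hc, hc'⟩ :=
          unitAt_sum (F := F) (propagate_ok _ (List.getElem_mem hn'))
        simp only [List.map_cons, List.map_nil, List.mem_singleton] at ha
        have h := tri_act hF hg (e (propagate[n]).2.1) (e (propagate[n]).2.2) (e a)
        rw [hd, hd, hd, ih _ hq.1, ih _ hq.2, one_smul, one_smul, tri_smul_right, tri_e, hc', ha] at h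
        simp only [e, Pi.single_eq_same, mul_one] at h
        rw [ha]
        exact mul_right_cancel₀ hc (by rw [one_mul]; exact h)
  have hall : ∀ a, d a = 1 := by
    intro a
    refine key propagate.length le_rfl a ?_
    rw [List.take_length]
    have h := propagate_total a
    have e' : ∀ L L' : List (Fin 27), L.foldr (· :: ·) L' = L ++ L' := fun L L' => by
      induction L with
      | nil => rfl
      | cons x L ih => simp [ih]
    rwa [e'] at h
  refine Units.ext (Matrix.ext_iff_mulVec.2 fun v => ?_)
  have : ∀ a, ((g : Matrix (Fin 27) (Fin 27) F)) *ᵥ e a = e a := fun a => by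
    have := hd a
    rwa [hall a, one_smul] at this
  rw [Units.val_one, Matrix.one_mulVec]
  have hv : v = ∑ a, v a • e a := by
    funext i; simp [Finset.sum_apply, e, Pi.single_apply]
  conv_lhs => rw [hv]
  simp only [Matrix.mulVec_sum, Matrix.mulVec_smul, this]
  exact hv.symm

/-- the stabiliser of the form is generated by the root elements -/
theorem Stab_eq : Stab F = Elem F := by
  refine le_antisymm (fun g hg => ?_) Elem_le
  obtain ⟨k, hk, hfix⟩ := fix_all hF hg
  choose c hc using fun a => hfix a (steps_cover a)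
  obtain ⟨u, hu, cu, hcu, huact⟩ := exists_torus (F := F) fun j => (Units.mk0 _ (hc (six j)).1)⁻¹
  have h1 : u * (k * g) = 1 := by
    refine diag_trivial hF (mul_mem (Elem_le hu) (mul_mem (Elem_le hk) hg))
      (fun a => c a * (cu a : F)) (fun a => ?_) fun j => ?_
    · rw [act_mul, (hc a).2, act, Matrix.mulVec_smul, ← act]
      show c a • act u (Pi.single a 1) = _
      rw [huact a, smul_smul]
      rfl
    · rw [hcu j, Units.val_inv_eq_inv_val, Units.val_mk0, mul_inv_cancel₀ (hc (six j)).1]
  have : g = k⁻¹ * u⁻¹ := by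
    rw [← _root_.mul_inv_rev]
    exact eq_inv_of_mul_eq_one_right (by rwa [mul_assoc])
  rw [this]
  exact mul_mem (inv_mem hk) (inv_mem hu)

end main

end Cfsg.Agent.H99.E6
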