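import Cfsg.Agent.H99.E6.Cubic

/-! Diagonal elements of the group generated by the root elements. -/

set_option autoImplicit false
set_option maxHeartbeats 1000000

namespace Cfsg.Agent.H99.E6

open Matrix

/-- the positive simple roots -/
def rp : Fin 6 → Fin 72 := ![56, 46, 42, 39, 37, 36]

/-- the negative simple roots -/
def rn : Fin 6 → Fin 72 := ![15, 25, 29, 32, 34, 35]

/-- the diagonal list of the coordinates of weight `c` -/
def diagOf (i : Fin 6) (c : ℤ) : Sp :=
  ((List.finRange 27).filter fun a => wt i a = c).map fun a => (a, a, 1)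

/-- the facts about a simple pair of root vectors -/
def pairOK (i : Fin 6) : Bool :=
  let M := rootM (rp i).val
  let N := rootM (rn i).val
  sameM (mulS (mulS M N) M) M && sameM (mulS (mulS N M) N) N &&
    sameM (mulS M N) (diagOf i 1) && sameM (mulS N M) (diagOf i (-1)) &&
    (List.finRange 27).all fun a => decide (wt i a = 0 ∨ wt i a = 1 ∨ wt i a = -1)

theorem pairOK_ok : ∀ i : Fin 6, pairOK i = true := by decide +kernel

variable {F : Type*} [Field F]

theorem toM_diagOf (i : Fin 6) (c : ℤ) :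
    (toM (diagOf i c) : Matrix (Fin 27) (Fin 27) F) =
      Matrix.diagonal fun a => if wt i a = c then 1 else 0 := by
  have key : ∀ L : List (Fin 27), L.Nodup →
      (toM (L.map fun a => (a, a, (1 : ℤ))) : Matrix (Fin 27) (Fin 27) F) =
        Matrix.diagonal fun a => if a ∈ L then 1 else 0 := by
    intro L
    induction L with
    | nil => intro _; ext a b; simp [Matrix.diagonal_apply]
    | cons x L ih =>
      intro h
      rw [List.nodup_cons] at h
      rw [List.map_cons, toM_cons, ih h.2]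
      ext a b
      by_cases hab : a = b
      · subst hab
        by_cases hx : x = a
        · subst hx; simp [h.1]
        · simp [hx, Ne.symm hx]
      · simp [Matrix.diagonal_apply_ne _ hab]
        rw [Matrix.single_apply, if_neg fun h' => hab (h'.1.symm.trans h'.2)]
  rw [diagOf, key _ ((List.nodup_finRange 27).filter _)]
  congr 1
  funext a
  simp

/-- the element of a simple root swapping the two coordinates of each pair -/
def nEl (i : Fin 6) (s : F) : GL (Fin 27) F := X (rp i) s * X (rn i) (-s⁻¹) * X (rp i) s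

/-- diagonal elements attached to the simple roots -/
def hEl (i : Fin 6) (s : F) : GL (Fin 27) F := nEl i s * nEl i (-1)

theorem hEl_mem (i : Fin 6) (s : F) : hEl i s ∈ Elem F :=
  mul_mem (mul_mem (mul_mem (X_mem_Elem _ _) (X_mem_Elem _ _)) (X_mem_Elem _ _))
    (mul_mem (mul_mem (X_mem_Elem _ _) (X_mem_Elem _ _)) (X_mem_Elem _ _))

theorem nEl_val (i : Fin 6) {s : F} (hs : s ≠ 0) :
    ((nEl i s : GL (Fin 27) F) : Matrix (Fin 27) (Fin 27) F) =
      (1 - Mr (rp i).val * Mr (rn i).val - Mr (rn i).val * Mr (rp i).val) +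
        (s • Mr (rp i).val - s⁻¹ • Mr (rn i).val) := by
  have h := pairOK_ok i
  simp only [pairOK, Bool.and_eq_true] at h
  have h1 : (Mr (rp i).val * Mr (rn i).val * Mr (rp i).val : Matrix (Fin 27) (Fin 27) F) =
      Mr (rp i).val := by simp only [Mr, ← toM_mulS]; exact toM_eq_of_same h.1.1.1.1
  simp only [nEl, Units.val_mul, X_val]
  generalize hM : (Mr (rp i).val : Matrix (Fin 27) (Fin 27) F) = M at h1 ⊢
  have hMM : M * M = 0 := hM ▸ Mr_sq (rp i)
  generalize hN : (Mr (rn i).val : Matrix (Fin 27) (Fin 27) F) = N at h1 ⊢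
  simp only [Matrix.add_mul, Matrix.mul_add, Matrix.one_mul, Matrix.mul_one, Matrix.smul_mul,
    Matrix.mul_smul, smul_add, smul_smul, hMM, smul_zero, h1]
  match_scalars <;> (field_simp; try ring)

theorem hEl_val (i : Fin 6) {s : F} (hs : s ≠ 0) :
    ((hEl i s : GL (Fin 27) F) : Matrix (Fin 27) (Fin 27) F) =
      Matrix.diagonal fun a => s ^ wt i a := by
  have h := pairOK_ok i
  simp only [pairOK, Bool.and_eq_true] at h
  obtain ⟨⟨⟨⟨h1, h2⟩, h3⟩, h4⟩, h5⟩ := h
  have e1 : (Mr (rp i).val * Mr (rn i).val * Mr (rp i).val : Matrix (Fin 27) (Fin 27) F) =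
      Mr (rp i).val := by simp only [Mr, ← toM_mulS]; exact toM_eq_of_same h1
  have e2 : (Mr (rn i).val * Mr (rp i).val * Mr (rn i).val : Matrix (Fin 27) (Fin 27) F) =
      Mr (rn i).val := by simp only [Mr, ← toM_mulS]; exact toM_eq_of_same h2
  have e3 : (Mr (rp i).val * Mr (rn i).val : Matrix (Fin 27) (Fin 27) F) =
      Matrix.diagonal fun a => if wt i a = 1 then 1 else 0 := by
    rw [Mr, Mr, ← toM_mulS, toM_eq_of_same h3, toM_diagOf]
  have e4 : (Mr (rn i).val * Mr (rp i).val : Matrix (Fin 27) (Fin 27) F) =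
      Matrix.diagonal fun a => if wt i a = -1 then 1 else 0 := by
    rw [Mr, Mr, ← toM_mulS, toM_eq_of_same h4, toM_diagOf]
  rw [hEl, Units.val_mul, nEl_val i hs, nEl_val i (neg_ne_zero.2 one_ne_zero), inv_neg, inv_one]
  generalize hM : (Mr (rp i).val : Matrix (Fin 27) (Fin 27) F) = M at e1 e2 e3 e4 ⊢
  generalize hN : (Mr (rn i).val : Matrix (Fin 27) (Fin 27) F) = N at e1 e2 e3 e4 ⊢
  have hMM : M * M = 0 := hM ▸ Mr_sq (rp i)
  have hNN : N * N = 0 := hN ▸ Mr_sq (rn i)
  have hMM' : ∀ A, M * (M * A) = 0 := fun A => by rw [← Matrix.mul_assoc, hMM, Matrix.zero_mul]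
  have hNN' : ∀ A, N * (N * A) = 0 := fun A => by rw [← Matrix.mul_assoc, hNN, Matrix.zero_mul]
  have e1' : ∀ A, M * (N * (M * A)) = M * A := fun A => by
    rw [← Matrix.mul_assoc, ← Matrix.mul_assoc, e1]
  have e2' : ∀ A, N * (M * (N * A)) = N * A := fun A => by
    rw [← Matrix.mul_assoc, ← Matrix.mul_assoc, e2]
  rw [Matrix.mul_assoc] at e1 e2
  trans (1 - M * N - N * M) + (s • (M * N) + s⁻¹ • (N * M))
  · simp only [Matrix.add_mul, Matrix.mul_add, Matrix.sub_mul, Matrix.mul_sub, Matrix.one_mul,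
      Matrix.mul_one, Matrix.smul_mul, Matrix.mul_smul, neg_smul, one_smul, Matrix.mul_neg,
      Matrix.mul_assoc, hMM, hNN, hMM', hNN', e1, e2, e1', e2', Matrix.mul_zero, smul_zero,
      smul_sub, smul_add, smul_neg, sub_neg_eq_add, neg_zero]
    abel
  · rw [e3, e4]
    ext a b
    by_cases hab : a = b
    · subst hab
      have hw := List.all_eq_true.1 h5 a (List.mem_finRange a)
      simp only [decide_eq_true_eq] at hw
      rcases hw with hw | hw | hw <;> simp [hw]
    · simp [Matrix.diagonal_apply_ne _ hab, hab]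

theorem act_hEl (i : Fin 6) {s : F} (hs : s ≠ 0) (a : Fin 27) :
    act (hEl i s) (Pi.single a 1) = s ^ wt i a • (Pi.single a 1 : Fin 27 → F) := by
  funext b
  rw [act, hEl_val i hs, Matrix.mulVec_diagonal]
  by_cases h : b = a
  · subst h; simp
  · simp [h]

theorem zpow_finset_sum (u : Fˣ) (s : Finset (Fin 6)) (f : Fin 6 → ℤ) :
    u ^ (∑ x ∈ s, f x) = ∏ x ∈ s, u ^ f x := by
  induction s using Finset.induction_on with
  | empty => simp
  | @insert x s hx ih => rw [Finset.sum_insert hx, Finset.prod_insert hx, _root_.zpow_add, ih]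

theorem invW_ok : ∀ j j' : Fin 6,
    ∑ i, invW i j' * wt i (six j) = if j' = j then 1 else 0 := by decide +kernel

/-- any values at the six coordinates are realised by a diagonal element -/
theorem exists_torus (d : Fin 6 → Fˣ) :
    ∃ e ∈ Elem F, ∃ c : Fin 27 → Fˣ, (∀ j, c (six j) = d j) ∧
      ∀ a, act e (Pi.single a 1) = (c a : F) • (Pi.single a 1 : Fin 27 → F) := by
  let s : Fin 6 → Fˣ := fun i => ∏ j, d j ^ invW i j
  have key : ∀ L : List (Fin 6), ∃ e ∈ Elem F, ∀ a, act e (Pi.single a 1) =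
      (((L.map fun i => s i ^ wt i a).prod : Fˣ) : F) • (Pi.single a 1 : Fin 27 → F) := by
    intro L
    induction L with
    | nil => exact ⟨1, one_mem _, fun a => by rw [act_one, List.map_nil, List.prod_nil, Units.val_one, one_smul]⟩
    | cons i L ih =>
      obtain ⟨e, he, h⟩ := ih
      refine ⟨hEl i (s i : F) * e, mul_mem (hEl_mem _ _) he, fun a => ?_⟩
      rw [act_mul, h a, act, Matrix.mulVec_smul, ← act, act_hEl i (s i).ne_zero, smul_smul,
        List.map_cons, List.prod_cons, Units.val_mul, Units.val_zpow_eq_zpow_val, mul_comm]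
  obtain ⟨e, he, h⟩ := key (List.finRange 6)
  refine ⟨e, he, fun a => ((List.finRange 6).map fun i => s i ^ wt i a).prod, fun j => ?_, h⟩
  simp only [← List.ofFn_eq_map, List.prod_ofFn]
  simp only [s, ← Finset.prod_zpow, ← _root_.zpow_mul]
  rw [Finset.prod_comm]
  simp only [← zpow_finset_sum, invW_ok]
  simp

end Cfsg.Agent.H99.E6
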